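import Cfsg.Agent.H10.StableNormal
import Cfsg.Agent.H10.PSolvable
import Cfsg.Agent.H32.Sylow
import Cfsg.Agent.H5.Frobenius

/-!
Transport of `W` along maps that are injective on the subgroup; the supplement statement.
-/

set_option autoImplicit false
set_option linter.style.haveILetI false

open Cfsg

namespace H10

universe u

variable {G H : Type u} [Group G] [Group H] {p : ℕ}

theorem map_stableClosureOf (f : G →* H) {R : Subgroup G}
    (hinj : ∀ x ∈ R, f x = 1 → x = 1) :
    (stableClosureOf p R).map f = stableClosureOf p (R.map f) := by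
  have hi : Function.Injective (f.subgroupMap R) := by
    rw [injective_iff_map_eq_one]
    exact fun x hx => Subtype.ext (hinj x x.2 (congrArg Subtype.val hx))
  set e : ↥R ≃* ↥(R.map f) :=
    MulEquiv.ofBijective (f.subgroupMap R) ⟨hi, f.subgroupMap_surjective R⟩ with he
  rw [stableClosureOf, stableClosureOf, ← map_stableNormalClosure e, Subgroup.map_map,
    Subgroup.map_map]
  rfl

theorem stableClosureOf_ne_bot [Finite G] [Fact p.Prime] {R : Subgroup G} (hR : IsPGroup p R)
    (h1 : R ≠ ⊥) : stableClosureOf p R ≠ ⊥ := by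
  haveI : Nontrivial R := (Subgroup.nontrivial_iff_ne_bot R).mpr h1
  intro h
  exact stableNormalClosure_ne_bot hR
    ((Subgroup.map_eq_bot_iff_of_injective _ R.subtype_injective).mp h)

theorem map_stableClosureOf_subgroupOf {N R : Subgroup G} (hR : R ≤ N) :
    (stableClosureOf p (R.subgroupOf N)).map N.subtype = stableClosureOf p R := by
  rw [map_stableClosureOf _ (fun x _ hx => N.subtype_injective (hx.trans (map_one _).symm)),
    Subgroup.map_subgroupOf_eq_of_le hR]

theorem pPrimeCore_sup_normalizer_eq_top [Finite G] [Fact p.Prime] (hsep : IsPSolvable p G)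
    (hst : IsActionPStable p (G ⧸ pPrimeCore p G)) (S : Sylow p G) :
    pPrimeCore p G ⊔ Subgroup.normalizer (stableClosureOf p (S : Subgroup G) : Set G) = ⊤ := by
  set K := pPrimeCore p G with hKdef
  set f := QuotientGroup.mk' K with hf
  have hinj : ∀ x ∈ (S : Subgroup G), f x = 1 → x = 1 := fun x hx hfx => by
    have h : x ∈ (S : Subgroup G) ⊓ K := ⟨hx, (QuotientGroup.eq_one_iff x).mp hfx⟩
    rw [inf_eq_bot_of_isPGroup_coprime S.isPGroup' pPrimeCore_coprime, Subgroup.mem_bot] at h
    exact h
  set W := stableClosureOf p (S : Subgroup G) with hW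
  have hc : Subgroup.centralizer (pCore p (G ⧸ K) : Set (G ⧸ K)) ≤ pCore p (G ⧸ K) :=
    centralizer_pCore_le (isPSolvable_quotient hsep K) pPrimeCore_quotient_pPrimeCore
  have hn : (W.map f).Normal := by
    rw [hW, map_stableClosureOf f hinj, ← Sylow.coe_mapSurjective (QuotientGroup.mk'_surjective K)]
    exact stableClosureOf_normal hst hc _
  set M := (W.map f).comap f with hM
  haveI : M.Normal := hn.comap f
  have hSM : (S : Subgroup G) ⊓ M = W := by
    refine le_antisymm ?_ (le_inf (stableClosureOf_le _) (Subgroup.le_comap_map f W))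
    rintro x ⟨hx, hxM⟩
    obtain ⟨w, hw, hwx⟩ := hxM
    have : w⁻¹ * x = 1 := hinj _ (mul_mem (inv_mem (stableClosureOf_le _ hw)) hx)
      (by rw [map_mul, map_inv, hwx, inv_mul_cancel])
    rwa [← inv_mul_eq_one.mp this]
  have h := H32.frattini_inf S M
  rw [hSM] at h
  refine top_le_iff.mp (h ▸ sup_le le_sup_right ?_)
  rw [hM, Subgroup.comap_map_eq, QuotientGroup.ker_mk']
  exact sup_le (Subgroup.le_normalizer.trans le_sup_right) le_sup_left

end H10
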