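import Cfsg.Agent.H10.CentralClosure
import Cfsg.Agent.H10.StableTransport
import Cfsg.Agent.H11.PConstrained

/-!
Thompson factorizability.
-/

set_option autoImplicit false
set_option linter.style.haveILetI false

open Cfsg

namespace H10

universe u

/-- `Ω₁(Z(R))` inside `G`. -/
abbrev omegaCenterOf (p : ℕ) {G : Type*} [Group G] (R : Subgroup G) : Subgroup G :=
  omegaOne p (R ⊓ Subgroup.centralizer (R : Set G))

variable {G : Type u} [Group G] {p : ℕ}

theorem map_omegaCenterOf {H : Type*} [Group H] (f : G →* H) {R : Subgroup G}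
    (hinj : ∀ x ∈ R, f x = 1 → x = 1) :
    (omegaCenterOf p R).map f = omegaCenterOf p (R.map f) := by
  unfold omegaCenterOf omegaOne
  rw [MonoidHom.map_closure]
  congr 1
  ext x
  constructor
  · rintro ⟨y, ⟨⟨hy, hyc⟩, hp⟩, rfl⟩
    refine ⟨⟨⟨y, hy, rfl⟩, ?_⟩, by rw [← map_pow, hp, map_one]⟩
    rintro _ ⟨z, hz, rfl⟩
    rw [← map_mul, ← map_mul, Subgroup.mem_centralizer_iff.mp hyc z hz]
  · rintro ⟨⟨⟨y, hy, rfl⟩, hc⟩, hp⟩
    refine ⟨y, ⟨⟨hy, ?_⟩, hinj _ (pow_mem hy p) (by rw [map_pow]; exact hp)⟩, rfl⟩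
    intro z hz
    have h1 : f z * f y = f y * f z := Subgroup.mem_centralizer_iff.mp hc _ ⟨z, hz, rfl⟩
    refine inv_mul_eq_one.mp (hinj _ (mul_mem (inv_mem (mul_mem hz hy)) (mul_mem hy hz)) ?_)
    rw [map_mul, map_inv, map_mul, map_mul, h1, inv_mul_cancel]

theorem map_thompsonSubgroupOf {H : Type u} [Group H] (f : G →* H) {R : Subgroup G}
    (hinj : ∀ x ∈ R, f x = 1 → x = 1) :
    (thompsonSubgroupOf p R).map f = thompsonSubgroupOf p (R.map f) := by
  have hi : Function.Injective (f.subgroupMap R) := by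
    rw [injective_iff_map_eq_one]
    exact fun x hx => Subtype.ext (hinj x x.2 (congrArg Subtype.val hx))
  set e : ↥R ≃* ↥(R.map f) :=
    MulEquiv.ofBijective (f.subgroupMap R) ⟨hi, f.subgroupMap_surjective R⟩ with he
  rw [thompsonSubgroupOf, thompsonSubgroupOf, ← map_thompsonSubgroup e, Subgroup.map_map,
    Subgroup.map_map]
  rfl

theorem isThompsonFactorizable_iff [Finite G] [Fact p.Prime] (hO : pPrimeCore p G = ⊥) :
    IsThompsonFactorizable p G ↔
      thompsonSubgroup p G ≤ Subgroup.centralizer (centralClosure p G : Set G) := by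
  set V := centralClosure p G with hV
  have hZV : ∀ S : Sylow p G, omegaCenterOf p (S : Subgroup G) ≤ V := fun S =>
    le_iSup (fun S : Sylow p G =>
      omegaOne p ((S : Subgroup G) ⊓ Subgroup.centralizer ((S : Subgroup G) : Set G))) S
  constructor
  · intro hf
    rw [thompsonSubgroup_eq_iSup_sylow]
    refine iSup_le fun S => ?_
    rw [Subgroup.le_centralizer_iff]
    refine iSup_le fun T => ?_
    obtain ⟨g, hg⟩ := MulAction.exists_smul_eq G S T
    obtain ⟨x, hx, c, hc, n, hn, he⟩ := hf S g⁻¹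
    rw [hO, Subgroup.mem_bot] at hx
    have hgn : g = n⁻¹ * c⁻¹ := by
      rw [← inv_inv g, he, hx, one_mul, mul_inv_rev]
    have hJS : thompsonSubgroupOf p (S : Subgroup G) ≤ (S : Subgroup G) :=
      Subgroup.map_subtype_le _
    refine (Subgroup.closure_le _).mpr fun y hy => ?_
    rw [SetLike.mem_coe, Subgroup.mem_centralizer_iff]
    intro j hj
    have hy1 : y ∈ (T : Subgroup G) := hy.1.1
    rw [← hg, Sylow.smul_def, Sylow.pointwise_smul_def] at hy1
    obtain ⟨z, hz, hzy⟩ := hy1
    have hzy' : y = g * z * g⁻¹ := hzy.symm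
    have hzc : z ∈ Subgroup.centralizer ((S : Subgroup G) : Set G) := by
      intro w hw
      have h1 : g * w * g⁻¹ ∈ (T : Subgroup G) := by
        rw [← hg, Sylow.smul_def, Sylow.pointwise_smul_def]
        exact ⟨w, hw, rfl⟩
      have h2 := Subgroup.mem_centralizer_iff.mp hy.1.2 _ h1
      rw [hzy', ← mul_left_cancel_iff (a := g⁻¹), ← mul_right_cancel_iff (a := g)] at h2
      simpa [mul_assoc] using h2
    have hzmem : z ∈ omegaCenterOf p (S : Subgroup G) := Subgroup.subset_closure
      ⟨⟨hz, hzc⟩, by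
        have h := hy.2
        rw [hzy', conj_pow, mul_inv_eq_one, mul_eq_left] at h
        exact h⟩
    have hcz : c⁻¹ * z * c = z := by
      rw [mul_assoc, Subgroup.mem_centralizer_iff.mp hc z hzmem, inv_mul_cancel_left]
    have hyn : y = n⁻¹ * z * n := by
      rw [hzy', hgn]
      calc n⁻¹ * c⁻¹ * z * (n⁻¹ * c⁻¹)⁻¹ = n⁻¹ * (c⁻¹ * z * c) * n := by group
        _ = _ := by rw [hcz]
    have hj' : n * j * n⁻¹ ∈ thompsonSubgroupOf p (S : Subgroup G) :=
      (Subgroup.mem_normalizer_iff.mp hn j).mp hj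
    have h3 : n * j * n⁻¹ * z = z * (n * j * n⁻¹) :=
      Subgroup.mem_centralizer_iff.mp hzc _ (hJS hj')
    rw [hyn]
    calc j * (n⁻¹ * z * n) = n⁻¹ * (n * j * n⁻¹ * z) * n := by group
      _ = n⁻¹ * (z * (n * j * n⁻¹)) * n := by rw [h3]
      _ = _ := by group
  · intro hJ S g
    haveI : V.Normal := centralClosure_normal
    set C := Subgroup.centralizer (V : Set G) with hC
    have h := H32.frattini_inf S C
    set T : Subgroup G := (S : Subgroup G) ⊓ C with hT
    have hE := H11.replProp_elem (G := G) p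
    have hN : Subgroup.normalizer (T : Set G) ≤
        Subgroup.normalizer (thompsonSubgroupOf p (S : Subgroup G) : Set G) := by
      intro n hn
      refine mem_normalizer_of_map_le ?_
      rw [H11.thompsonSubgroupOf_eq, Subgroup.map_le_iff_le_comap]
      refine sSup_le fun A hA => Subgroup.map_le_iff_le_comap.mp ?_
      have hA' := maxFam_sylow S hA
      have hAT : A ≤ T := le_inf hA.1 ((thompsonSubgroup_eq (p := p) (G := G) ▸ le_sSup hA').trans hJ)
      exact le_sSup (H11.maxFam_subset_of_mem inf_le_left hA hAT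
        (conj_mem_maxFam hE hn (H11.mem_maxFam_of_mem inf_le_left hA hAT)))
    obtain ⟨n, hn, c, hc, rfl⟩ := exists_mul_of_mem_sup
      (show Subgroup.normalizer (T : Set G) ≤ Subgroup.normalizer (C : Set G) from
        Subgroup.le_normalizer_of_normal)
      (show g ∈ Subgroup.normalizer (T : Set G) ⊔ C by rw [h]; exact Subgroup.mem_top g)
    refine ⟨1, one_mem _, n * c * n⁻¹, Subgroup.centralizer_le (hZV S) ?_, n, hN hn, by group⟩
    exact (inferInstance : C.Normal).conj_mem c hc n

theorem isThompsonFactorizable_quotient_iff [Finite G] [Fact p.Prime] :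
    IsThompsonFactorizable p G ↔ IsThompsonFactorizable p (G ⧸ pPrimeCore p G) := by
  set K := pPrimeCore p G with hK
  set f := QuotientGroup.mk' K with hf
  have hfs : Function.Surjective f := QuotientGroup.mk'_surjective K
  have hinj : ∀ S : Sylow p G, ∀ x ∈ (S : Subgroup G), f x = 1 → x = 1 := fun S x hx hfx => by
    have h : x ∈ (S : Subgroup G) ⊓ K := ⟨hx, (QuotientGroup.eq_one_iff x).mp hfx⟩
    rw [inf_eq_bot_of_isPGroup_coprime S.isPGroup' pPrimeCore_coprime, Subgroup.mem_bot] at h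
    exact h
  have hker : (Nat.card f.ker).Coprime p := by
    rw [QuotientGroup.ker_mk']; exact pPrimeCore_coprime
  have hZS : ∀ S : Sylow p G, omegaCenterOf p (S : Subgroup G) ≤ (S : Subgroup G) :=
    fun S => (omegaOne_le _).trans inf_le_left
  constructor
  · intro h S' g'
    obtain ⟨S, rfl⟩ := Sylow.mapSurjective_surjective hfs p S'
    obtain ⟨g, rfl⟩ := hfs g'
    obtain ⟨x, hx, c, hc, n, hn, rfl⟩ := h S g
    refine ⟨1, one_mem _, f c, ?_, f n, ?_, ?_⟩
    · rw [Sylow.coe_mapSurjective,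
        show omegaOne p _ = omegaCenterOf p ((S : Subgroup G).map f) from rfl,
        ← map_omegaCenterOf f (hinj S)]
      rintro _ ⟨z, hz, rfl⟩
      rw [← map_mul, ← map_mul, Subgroup.mem_centralizer_iff.mp hc z hz]
    · rw [Sylow.coe_mapSurjective, ← map_thompsonSubgroupOf f (hinj S)]
      exact Subgroup.le_normalizer_map f ⟨n, hn, rfl⟩
    · rw [map_mul, map_mul, show f x = 1 from (QuotientGroup.eq_one_iff x).mpr hx]
  · intro h S g
    obtain ⟨x', hx', c', hc', n', hn', he⟩ := h (S.mapSurjective hfs) (f g)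
    rw [pPrimeCore_quotient_pPrimeCore, Subgroup.mem_bot] at hx'
    rw [Sylow.coe_mapSurjective, ← map_thompsonSubgroupOf f (hinj S),
      ← H11.map_normalizer_eq f hfs hker (thompsonSubgroupOf p (S : Subgroup G))
        (S.isPGroup'.to_le (Subgroup.map_subtype_le _))] at hn'
    obtain ⟨n, hn, rfl⟩ := hn'
    rw [Sylow.coe_mapSurjective,
      show omegaOne p _ = omegaCenterOf p ((S : Subgroup G).map f) from rfl,
      ← map_omegaCenterOf f (hinj S)] at hc'
    have hc2 := Subgroup.centralizer_le_normalizer _ hc'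
    rw [← H11.map_normalizer_eq f hfs hker _ (S.isPGroup'.to_le (hZS S))] at hc2
    obtain ⟨c, hc, rfl⟩ := hc2
    refine ⟨g * (c * n)⁻¹, ?_, c, ?_, n, hn, by group⟩
    · refine (QuotientGroup.eq_one_iff _).mp (show f (g * (c * n)⁻¹) = 1 from ?_)
      rw [map_mul, he, hx', one_mul, map_inv, map_mul, mul_inv_cancel]
    · intro z hz
      have h1 : c * z * c⁻¹ ∈ (S : Subgroup G) :=
        hZS S ((Subgroup.mem_normalizer_iff.mp hc z).mp hz)
      have h2 := Subgroup.mem_centralizer_iff.mp hc' _ ⟨z, hz, rfl⟩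
      refine (mul_inv_eq_iff_eq_mul.mp (mul_inv_eq_one.mp (hinj S _ (mul_mem h1 (inv_mem (hZS S hz))) ?_))).symm
      rw [map_mul, map_mul, map_mul, map_inv, map_inv, ← h2]
      group

end H10
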