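import Cfsg.Agent.H10.SemiModel
import Cfsg.Agent.H10.FFStructure
import Cfsg.Agent.H10.Factorizable

/-!
Failure of the Thompson factorization in `p`-soluble groups.
-/

set_option autoImplicit false
set_option linter.style.haveILetI false

open Cfsg
open scoped commutatorElement

namespace H10

variable {G : Type*} [Group G] [Finite G] {p : ℕ} [Fact p.Prime]

theorem pCore_quotient_centralClosure (p : ℕ) (G : Type*) [Group G] [Finite G] [Fact p.Prime]
    [(centralClosure p G).Normal] :
    pCore p (G ⧸ Subgroup.centralizer (centralClosure p G : Set G)) = ⊥ := by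
  refine pCore_quotient_centralizer_eq_bot (fun S : Sylow p G => omegaCenterOf p (S : Subgroup G))
    (fun S => ?_) le_rfl fun S => le_iSup (fun S : Sylow p G => omegaCenterOf p (S : Subgroup G)) S
  rw [Subgroup.le_centralizer_iff]
  exact (omegaOne_le _).trans inf_le_right

theorem centralizer_iSup_sets (p : ℕ) (G : Type*) [Group G] :
    Subgroup.centralizer (⨆ S : Sylow p G, ((omegaOne p ((S : Subgroup G) ⊓
        Subgroup.centralizer ((S : Subgroup G) : Set G)) : Subgroup G) : Set G)) =
      Subgroup.centralizer (centralClosure p G : Set G) := by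
  refine le_antisymm ?_ (Subgroup.centralizer_le (Set.iUnion_subset fun S => SetLike.coe_subset_coe.mpr
    (le_iSup (fun S : Sylow p G => omegaOne p ((S : Subgroup G) ⊓
        Subgroup.centralizer ((S : Subgroup G) : Set G))) S)))
  rw [Subgroup.le_centralizer_iff]
  refine iSup_le fun S x hx => ?_
  rw [Subgroup.mem_centralizer_iff]
  exact fun g hg => (Subgroup.mem_centralizer_iff.mp hg x (Set.mem_iUnion.mpr ⟨S, hx⟩)).symm

theorem quotient_iso_congr {C C' E : Subgroup G} {T : Type*} [Group T] (h : C' = C)
    (hx : ∃ _ : (C.subgroupOf E).Normal, Nonempty ((↥E ⧸ C.subgroupOf E) ≃* T)) :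
    ∃ _ : (C'.subgroupOf E).Normal, Nonempty ((↥E ⧸ C'.subgroupOf E) ≃* T) := by
  subst h; exact hx

/-- The image of `J(G)` in the model is generated by best offenders. -/
theorem thompson_model_generated (V : Subgroup G) [V.Normal] (hV : IsElementaryAbelian p V)
    (hff : FFHyp p (modelV V) ((thompsonSubgroup p G).map (toModel V))) :
    (thompsonSubgroup p G).map (toModel V) = ⨆ A : {A : Subgroup (Model V) //
      A ≤ (thompsonSubgroup p G).map (toModel V) ∧ IsBestOffenderOn p (modelV V) A},
        (A : Subgroup (Model V)) := by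
  refine le_antisymm ?_ (iSup_le fun A => A.2.1)
  have key : ∀ A ∈ H11.maxFam (elemP p) (⊤ : Subgroup G),
      IsOff p (modelV V) ((thompsonSubgroup p G).map (toModel V)) (A.map (toModel V)) := fun A hA =>
    isOff_of_maxFam hV hA le_top (Subgroup.map_mono (thompsonSubgroup_eq (p := p) (G := G) ▸ le_sSup hA))
  rw [Subgroup.map_le_iff_le_comap]
  conv_lhs => rw [thompsonSubgroup_eq]
  refine sSup_le fun A hA => ?_
  rw [← Subgroup.map_le_iff_le_comap]
  exact le_iSup (fun A : {A : Subgroup (Model V) //
    A ≤ (thompsonSubgroup p G).map (toModel V) ∧ IsBestOffenderOn p (modelV V) A} =>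
      (A : Subgroup (Model V))) ⟨_, (key A hA).1, hff.best_of_isOff (key A hA)⟩

theorem exists_sl2_of_not_factorizable (hsep : IsPSolvable p G) (hO : pPrimeCore p G = ⊥)
    (hnf : ¬ IsThompsonFactorizable p G) :
    (p = 2 ∨ p = 3) ∧ ∃ E : Subgroup G,
      Subgroup.centralizer (centralClosure p G : Set G) ≤ E ∧
      E ≤ thompsonSubgroup p G ⊔ Subgroup.centralizer (centralClosure p G : Set G) ∧
      thompsonSubgroup p G ⊔ Subgroup.centralizer (centralClosure p G : Set G) ≤
        Subgroup.normalizer (E : Set G) ∧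
      ∃ _ : ((Subgroup.centralizer (centralClosure p G : Set G)).subgroupOf E).Normal,
        Nonempty ((↥E ⧸ (Subgroup.centralizer (centralClosure p G : Set G)).subgroupOf E) ≃*
          Matrix.SpecialLinearGroup (Fin 2) (ZMod p)) := by
  have hc := centralizer_pCore_le hsep hO
  set V := centralClosure p G with hVdef
  haveI : V.Normal := centralClosure_normal
  have hV : IsElementaryAbelian p V := centralClosure_elementaryAbelian hc
  have hOq : pCore p (G ⧸ Subgroup.centralizer (V : Set G)) = ⊥ := pCore_quotient_centralClosure p G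
  set J := thompsonSubgroup p G with hJ
  haveI : J.Characteristic := thompsonSubgroup_characteristic
  have hff : FFHyp p (modelV V) (J.map (toModel V)) :=
    ffHyp_model hV (isPSolvable_subgroup hsep J) hOq
  have hS3 := thompson_model_generated V hV hff
  obtain ⟨B, hB⟩ : ∃ B, IsTv p (modelV V) (J.map (toModel V)) B := by
    by_contra hemp
    apply hnf
    rw [isThompsonFactorizable_iff hO, ← hJ]
    intro j hj
    have h1 : toModel V j ∈ (⊥ : Subgroup (Model V)) :=
      (hff.le_sSup_tv hS3).trans (sSup_le fun B hB => absurd ⟨B, hB⟩ hemp) ⟨j, hj, rfl⟩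
    exact toModel_eq_one_iff.mp (Subgroup.mem_bot.mp h1)
  have F := hff.factorFacts hB
  obtain ⟨hn, -⟩ := hff.decomposition hS3 hB
  set E' := eGroup p (J.map (toModel V)) B
  have hker : (toModel V).ker = Subgroup.centralizer (V : Set G) :=
    Subgroup.ext fun g => MonoidHom.mem_ker.trans toModel_eq_one_iff
  have hcm : (J.map (toModel V)).comap (toModel V) = J ⊔ Subgroup.centralizer (V : Set G) := by
    rw [Subgroup.comap_map_eq]; exact congrArg (J ⊔ ·) hker
  refine ⟨F.p_eq, E'.comap (toModel V),
    hker.ge.trans (Subgroup.ker_le_comap (toModel V) E'), ?_, ?_, ?_⟩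
  · exact (Subgroup.comap_mono F.le).trans hcm.le
  · refine le_trans ?_ (Subgroup.le_normalizer_comap _)
    exact hcm.ge.trans (Subgroup.comap_mono hn)
  · let ψ : ↥(E'.comap (toModel V)) →* ↥E' := (toModel V).subgroupComap E'
    have hψ : Function.Surjective ψ := by
      rintro ⟨y, hy⟩
      obtain ⟨g, -, rfl⟩ := (F.le.trans (Subgroup.map_mono le_top)) hy
      exact ⟨⟨g, hy⟩, rfl⟩
    have hk : ψ.ker = (Subgroup.centralizer (V : Set G)).subgroupOf (E'.comap (toModel V)) := by
      ext x
      rw [MonoidHom.mem_ker, Subgroup.mem_subgroupOf, ← toModel_eq_one_iff]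
      exact ⟨fun h => congrArg Subtype.val h, fun h => Subtype.ext h⟩
    refine ⟨hk ▸ ψ.normal_ker, ?_⟩
    obtain ⟨e⟩ := F.iso
    haveI := hk ▸ ψ.normal_ker
    exact ⟨(QuotientGroup.quotientMulEquivOfEq hk.symm).trans
      ((QuotientGroup.quotientKerEquivOfSurjective ψ hψ).trans e)⟩

end H10
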