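import Cfsg.Agent.H82.SFree.NoFFSE
import Cfsg.Agent.H73.StrongFusionCriteria
import Cfsg.Agent.H73.QdFree
import Cfsg.Agent.H73.QdFusion
import Cfsg.Agent.H74.Pair.Functor
import Cfsg.Agent.H74.S4Iff
import Cfsg.Agent.H74.ThompsonA
import Cfsg.Agent.H77.ThompsonTwo
import Cfsg.Agent.H86.Sylow
import Cfsg.Agent.S2761

/-!
From the absence of failure of factorization in groups without a section `S₃`-like pair to the
factorization `X = N(Z(T)) N(J(T))` in constrained `S₄`-free groups, and to control of strong fusion.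
-/

set_option autoImplicit false
set_option linter.unusedSectionVars false
set_option linter.style.haveILetI false

namespace H10.S4Wrap

open Subgroup H82.SFree

universe u

/-- No offender on a faithful module of an `S₃`-free group with trivial `2`-core. -/
def NoFF : Prop :=
  ∀ (G : Type u) [Group G] [Finite G] (V : Type u) [AddCommGroup V] [Finite V] [DistribMulAction G V],
    (∀ v : V, v + v = 0) → (∀ g : G, (∀ v : V, g • v = v) → g = 1) → Cfsg.pCore 2 G = ⊥ →
    ¬ Cfsg.Involves (Equiv.Perm (Fin 3)) G → ∀ A : Subgroup G, (∀ a ∈ A, a * a = 1) → A ≠ ⊥ →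
      Nat.card A * Nat.card (fixV A : AddSubgroup V) < Nat.card V

/-- The centre as a functor. -/
def zFun (Q : Type u) [Group Q] : Subgroup Q := Subgroup.center Q

theorem isCharPFunctor_zFun : Cfsg.IsCharPFunctor.{u} 2 zFun.{u} := by
  haveI : Fact (Nat.Prime 2) := ⟨Nat.prime_two⟩
  refine ⟨fun Q _ _ hQ hne h => ?_, fun Q R _ _ _ _ φ => ?_⟩
  · haveI := hQ.center_nontrivial
    exact (Subgroup.nontrivial_iff_ne_bot _).mp this h
  · ext r
    simp only [zFun, Subgroup.mem_map_equiv, Subgroup.mem_center_iff]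
    exact ⟨fun h g => by have := congrArg φ (h (φ.symm g)); simpa using this,
      fun h g => φ.injective (by simpa using h (φ g))⟩

theorem inducedFunctor_zFun {G : Type u} [Group G] (P : Subgroup G) :
    Cfsg.inducedFunctor (G := G) zFun.{u} P = P ⊓ centralizer (P : Set G) := by
  ext x
  constructor
  · rintro ⟨z, hz, rfl⟩
    exact ⟨z.2, fun y hy => congrArg Subtype.val (mem_center_iff.mp hz ⟨y, hy⟩)⟩
  · rintro ⟨hx, hxc⟩
    exact ⟨⟨x, hx⟩, mem_center_iff.mpr fun y => Subtype.ext (hxc y y.2), rfl⟩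

theorem inducedFunctor_jFun {G : Type u} [Group G] (P : Subgroup G) :
    Cfsg.inducedFunctor (G := G) H74.Pair.jFun.{u} P = Cfsg.thompsonSubgroupOf 2 P := rfl

/-- The family `{Z, J}`. -/
def pairFam : Set (∀ (Q : Type u) [Group Q], Subgroup Q) := {zFun.{u}, H74.Pair.jFun.{u}}

theorem pairFam_char : ∀ W ∈ pairFam.{u}, Cfsg.IsCharPFunctor.{u} 2 W := by
  rintro W (rfl | rfl)
  · exact isCharPFunctor_zFun
  · exact H74.Pair.isCharPFunctor_jFun

theorem famOf_pairFam (X : Type u) [Group X] :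
    H73.famOf pairFam.{u} X = {fun P : Subgroup X => P ⊓ centralizer (P : Set X),
      fun P : Subgroup X => Cfsg.thompsonSubgroupOf 2 P} := by
  show (fun W => Cfsg.inducedFunctor (G := X) W) '' _ = _
  rw [pairFam, Set.image_pair]
  rw [show Cfsg.inducedFunctor (G := X) zFun.{u} = fun P : Subgroup X => P ⊓ centralizer (P : Set X)
    from funext inducedFunctor_zFun, show Cfsg.inducedFunctor (G := X) H74.Pair.jFun.{u} =
    fun P : Subgroup X => Cfsg.thompsonSubgroupOf 2 P from funext inducedFunctor_jFun]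

variable {X : Type u} [Group X] [Finite X]

/-- An element of odd order fixing the involutions of an abelian `2`-group it normalizes fixes it. -/
theorem commute_of_odd {W : Subgroup X} (hWab : ∀ a ∈ W, ∀ b ∈ W, a * b = b * a) (hW2 : IsPGroup 2 W)
    {g : X} (hg : Odd (orderOf g)) (hgW : ∀ w ∈ W, g * w * g⁻¹ ∈ W)
    (hinv : ∀ w ∈ W, w * w = 1 → g * w = w * g) : ∀ w ∈ W, g * w = w * g := by
  intro w hw
  obtain ⟨k, hk⟩ := hW2 ⟨w, hw⟩
  have hk' : w ^ 2 ^ k = 1 := by simpa using congrArg Subtype.val hk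
  clear hk
  induction k generalizing w with
  | zero => rw [pow_zero, pow_one] at hk'; rw [hk', mul_one, one_mul]
  | succ k ih =>
    have hsq : g * (w * w) = (w * w) * g := by
      refine ih _ (W.mul_mem hw hw) ?_
      rw [← pow_two, ← pow_mul, ← pow_succ']
      exact hk'
    set v := g * w * g⁻¹ * w⁻¹ with hv
    have hvW : v ∈ W := W.mul_mem (hgW w hw) (W.inv_mem hw)
    have hv2 : v * v = 1 := by
      have hcw : (g * w * g⁻¹) * w⁻¹ = w⁻¹ * (g * w * g⁻¹) := hWab _ (hgW w hw) _ (W.inv_mem hw)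
      calc v * v = (g * w * g⁻¹) * (w⁻¹ * (g * w * g⁻¹)) * w⁻¹ := by rw [hv]; group
        _ = (g * w * g⁻¹) * ((g * w * g⁻¹) * w⁻¹) * w⁻¹ := by rw [hcw]
        _ = (g * (w * w) * g⁻¹) * (w * w)⁻¹ := by group
        _ = 1 := by rw [hsq]; group
    have hgv : g * v = v * g := hinv v hvW hv2
    have hn : ∀ n : ℕ, g ^ n * w * (g ^ n)⁻¹ = v ^ n * w := by
      intro n
      induction n with
      | zero => simp
      | succ n ihn =>
        have hgvn : g * v ^ n * g⁻¹ = v ^ n := by
          rw [(Commute.pow_right (show Commute g v from hgv) n).eq, mul_inv_cancel_right]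
        calc g ^ (n + 1) * w * (g ^ (n + 1))⁻¹ = g * (g ^ n * w * (g ^ n)⁻¹) * g⁻¹ := by
              rw [pow_succ']; group
          _ = (g * v ^ n * g⁻¹) * (g * w * g⁻¹) := by rw [ihn]; group
          _ = v ^ (n + 1) * w := by rw [hgvn, pow_succ, hv]; group
    have h1 := hn (orderOf g)
    rw [pow_orderOf_eq_one, one_mul, inv_one, mul_one] at h1
    have h2 : v ^ orderOf g = 1 := mul_eq_right.mp h1.symm
    obtain ⟨j, hj⟩ := hg
    rw [hj, pow_succ, pow_mul, pow_two, hv2, one_pow, one_mul, hv, mul_inv_eq_one,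
      mul_inv_eq_iff_eq_mul] at h2
    exact h2

/-- The factorization in a constrained group without a section `S₄`. -/
theorem factor (hff : NoFF.{u}) (h4 : ¬ Cfsg.Involves (Equiv.Perm (Fin 4)) X)
    (hc : centralizer ((Cfsg.pCore 2 X : Subgroup X) : Set X) ≤ Cfsg.pCore 2 X) (T : Sylow 2 X) :
    ∀ x : X, ∃ a ∈ normalizer ((Cfsg.inducedFunctor zFun.{u} (T : Subgroup X) : Subgroup X) : Set X),
      ∃ b ∈ normalizer ((Cfsg.inducedFunctor H74.Pair.jFun.{u} (T : Subgroup X) : Subgroup X) : Set X),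
        x = a * b := by
  classical
  haveI : Fact (Nat.Prime 2) := ⟨Nat.prime_two⟩
  rw [inducedFunctor_zFun, inducedFunctor_jFun]
  set Q := Cfsg.pCore 2 X with hQdef
  haveI hQn : Q.Normal := H1.pCore_normal' 2 X
  have hQT : Q ≤ (T : Subgroup X) := H1.pCore_le_sylow T
  set Z := (T : Subgroup X) ⊓ centralizer ((T : Subgroup X) : Set X) with hZdef
  have hZQ : Z ≤ Q := (inf_le_right.trans (centralizer_le (SetLike.coe_subset_coe.mpr hQT))).trans hc
  set W := normalClosure (Z : Set X) with hWdef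
  haveI hWn : W.Normal := normalClosure_normal
  have hWQ : W ≤ Q ⊓ centralizer (Q : Set X) := normalClosure_le_normal
    (le_inf hZQ (inf_le_right.trans (centralizer_le (SetLike.coe_subset_coe.mpr hQT))))
  have hWab : ∀ a ∈ W, ∀ b ∈ W, a * b = b * a := fun a ha b hb =>
    mem_centralizer_iff.mp (hWQ hb).2 a (hWQ ha).1
  have hW2 : IsPGroup 2 W := (H1.isPGroup_pCore 2 X).to_le (hWQ.trans inf_le_left)
  have hZW : Z ≤ W := fun z hz => subset_normalClosure hz
  set C := centralizer (W : Set X) with hCdef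
  haveI hCn : C.Normal := inferInstance
  -- the `2`-core of `X / C` is trivial
  have hbar : Cfsg.pCore 2 (X ⧸ C) = ⊥ := by
    haveI := H1.pCore_normal' 2 (X ⧸ C)
    have hle : Cfsg.pCore 2 (X ⧸ C) ≤ (T : Subgroup X).map (QuotientGroup.mk' C) :=
      H1.pCore_le_sylow (T.mapSurjective (QuotientGroup.mk'_surjective C))
    set D := (Cfsg.pCore 2 (X ⧸ C)).comap (QuotientGroup.mk' C) with hD
    haveI : D.Normal := Subgroup.Normal.comap inferInstance _
    have hDZ : ∀ d ∈ D, ∀ z ∈ Z, d * z = z * d := by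
      intro d hd z hz
      obtain ⟨t, ht, htd⟩ := hle hd
      have hcC : d * t⁻¹ ∈ C := by
        rw [← QuotientGroup.eq_one_iff (N := C)]
        show QuotientGroup.mk' C (d * t⁻¹) = 1
        rw [map_mul, map_inv, htd, mul_inv_cancel]
      have h1 := mem_centralizer_iff.mp hcC z (hZW hz)
      have h2 := mem_centralizer_iff.mp hz.2 t ht
      calc d * z = (d * t⁻¹) * (t * z) := by group
        _ = (d * t⁻¹) * (z * t) := by rw [h2]
        _ = ((d * t⁻¹) * z) * t := by group
        _ = (z * (d * t⁻¹)) * t := by rw [h1]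
        _ = z * d := by group
    have hDC : D ≤ C := by
      have hW : W ≤ centralizer (D : Set X) :=
        normalClosure_le_normal fun z hz => mem_centralizer_iff.mpr fun d hd => hDZ d hd z hz
      exact fun d hd => mem_centralizer_iff.mpr fun w hw =>
        (mem_centralizer_iff.mp (hW hw) d hd).symm
    rw [eq_bot_iff]
    intro y hy
    obtain ⟨d, rfl⟩ := QuotientGroup.mk'_surjective C y
    exact (QuotientGroup.eq_one_iff d).mpr (hDC hy)
  -- the involutions of `W`
  let V : Subgroup X :=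
    { carrier := {w | w ∈ W ∧ w * w = 1}
      one_mem' := ⟨W.one_mem, one_mul 1⟩
      mul_mem' := fun {a b} ha hb => ⟨W.mul_mem ha.1 hb.1, by
        calc a * b * (a * b) = a * (b * a) * b := by group
          _ = a * (a * b) * b := by rw [hWab b hb.1 a ha.1]
          _ = (a * a) * (b * b) := by group
          _ = 1 := by rw [ha.2, hb.2, mul_one]⟩
      inv_mem' := fun {a} ha => ⟨W.inv_mem ha.1, by rw [← mul_inv_rev, ha.2, inv_one]⟩ }
  have hVW : V ≤ W := fun w hw => hw.1
  haveI hVn : V.Normal := ⟨fun w hw g => ⟨hWn.conj_mem w hw.1 g, by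
    rw [show g * w * g⁻¹ * (g * w * g⁻¹) = g * (w * w) * g⁻¹ by group, hw.2, mul_one, mul_inv_cancel]⟩⟩
  have hVT : V ≤ (T : Subgroup X) := hVW.trans ((hWQ.trans inf_le_left).trans hQT)
  have hVC : C = centralizer (V : Set X) := by
    refine le_antisymm (centralizer_le (SetLike.coe_subset_coe.mpr hVW)) ?_
    set E := centralizer (V : Set X) with hE
    have hodd : ∀ g ∈ E, Odd (orderOf g) → g ∈ C := fun g hg ho =>
      mem_centralizer_iff.mpr fun w hw => (commute_of_odd hWab hW2 ho
        (fun a ha => hWn.conj_mem a ha g)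
        (fun a ha ha2 => (mem_centralizer_iff.mp hg a ⟨ha, ha2⟩).symm) w hw).symm
    haveI : (E.map (QuotientGroup.mk' C)).Normal :=
      Subgroup.Normal.map inferInstance _ (QuotientGroup.mk'_surjective C)
    have hE2 : IsPGroup 2 (E.map (QuotientGroup.mk' C)) := by
      rintro ⟨_, e, he, rfl⟩
      refine ⟨(orderOf e).factorization 2, Subtype.ext ?_⟩
      show (QuotientGroup.mk' C e) ^ _ = 1
      rw [← map_pow]
      refine (QuotientGroup.eq_one_iff _).mpr (hodd _ (E.pow_mem he _) ?_)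
      rw [orderOf_pow_of_dvd (by positivity) (Nat.ordProj_dvd _ 2)]
      exact Nat.not_even_iff_odd.mp fun hev =>
        Nat.not_dvd_ordCompl Nat.prime_two (orderOf_pos e).ne' (even_iff_two_dvd.mp hev)
    have h1 := H1.le_pCore hE2
    rw [hbar] at h1
    intro e he
    exact (QuotientGroup.eq_one_iff e).mp (Subgroup.mem_bot.mp (h1 ⟨e, he, rfl⟩))
  -- the action of `X / C` on `V`
  let ψ : X →* MulAut V := MulAut.conjNormal
  have hψker : C ≤ ψ.ker := by
    intro x hx
    refine MonoidHom.mem_ker.mpr (MulEquiv.ext fun v => Subtype.ext ?_)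
    rw [hVC] at hx
    simp only [ψ, MulAut.conjNormal_apply, MulAut.one_apply]
    rw [← mem_centralizer_iff.mp hx v v.2, mul_inv_cancel_right]
  let f : X ⧸ C →* MulAut V := QuotientGroup.lift C ψ hψker
  letI : CommGroup V :=
    { (inferInstance : Group V) with
      mul_comm := fun a b => Subtype.ext (hWab a a.2.1 b b.2.1) }
  letI : DistribMulAction (X ⧸ C) (Additive V) :=
    { smul := fun q v => Additive.ofMul (f q v.toMul)
      one_smul := fun v => by show Additive.ofMul (f 1 v.toMul) = v; rw [map_one]; rfl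
      mul_smul := fun q r v => by show Additive.ofMul (f (q * r) v.toMul) = _; rw [map_mul]; rfl
      smul_zero := fun q => by show Additive.ofMul (f q 1) = _; rw [map_one]; rfl
      smul_add := fun q v w => by
        show Additive.ofMul (f q (v.toMul * w.toMul)) = _; rw [map_mul]; rfl }
  have hsm : ∀ (x : X) (v : V), (((x : X ⧸ C) • Additive.ofMul v).toMul : X) = x * (v : X) * x⁻¹ :=
    fun x v => rfl
  have hVV : ∀ v : Additive V, v + v = 0 := fun v => Subtype.ext (v.toMul).2.2
  have hfaith : ∀ q : X ⧸ C, (∀ v : Additive V, q • v = v) → q = 1 := by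
    intro q hq
    obtain ⟨x, rfl⟩ := QuotientGroup.mk'_surjective C q
    refine (QuotientGroup.eq_one_iff x).mpr ?_
    rw [hVC, mem_centralizer_iff]
    intro v hv
    have h1 := congrArg (fun a : Additive V => (a.toMul : X)) (hq (Additive.ofMul ⟨v, hv⟩))
    change x * v * x⁻¹ = v at h1
    exact (mul_inv_eq_iff_eq_mul.mp h1).symm
  have h3 : ¬ Cfsg.Involves (Equiv.Perm (Fin 3)) (X ⧸ C) := by
    intro hinv3
    refine h4 (H74.S4Section.symm_four_of_automizer (T := V)
      (((H1.isPGroup_pCore 2 X).to_le (hVW.trans (hWQ.trans inf_le_left)))) ?_)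
    set N := normalizer (V : Set X) with hN
    have hall : ∀ x : X, x ∈ N := fun x => by rw [hN, normalizer_eq_top]; exact mem_top x
    let i : X →* N := (MonoidHom.id X).codRestrict N hall
    let ι : X ⧸ C →* ↥N ⧸ (centralizer (V : Set X)).subgroupOf N :=
      QuotientGroup.map C _ i (fun x hx => by
        show (x : X) ∈ centralizer (V : Set X)
        rw [← hVC]; exact hx)
    have hι : Function.Injective ι := by
      refine (injective_iff_map_eq_one ι).mpr fun q hq => ?_
      obtain ⟨x, rfl⟩ := QuotientGroup.mk'_surjective C q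
      refine (QuotientGroup.eq_one_iff x).mpr ?_
      rw [hVC]
      exact mem_subgroupOf.mp ((QuotientGroup.eq_one_iff (i x)).mp hq)
    exact H74.JA.involves_subgroup (H74.JA.involves_of_equiv (MonoidHom.ofInjective hι) hinv3)
  -- `J(T) ≤ C`
  have hJC : Cfsg.thompsonSubgroupOf 2 (T : Subgroup X) ≤ C := by
    rw [H77.thompson_eq]
    refine sSup_le fun A hA => ?_
    by_contra hAC
    have hAel : Cfsg.IsElementaryAbelian 2 A := hA.2.1
    set Ab := A.map (QuotientGroup.mk' C) with hAb
    have hAb2 : ∀ a ∈ Ab, a * a = 1 := by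
      rintro _ ⟨a, ha, rfl⟩
      rw [← map_mul, ← pow_two, hAel.2 a ha, map_one]
    have hAbne : Ab ≠ ⊥ := fun h => hAC fun a ha => (QuotientGroup.eq_one_iff a).mp
      (Subgroup.mem_bot.mp (h ▸ Subgroup.mem_map_of_mem _ ha))
    have hlt := hff (X ⧸ C) (Additive V) hVV hfaith hbar h3 Ab hAb2 hAbne
    have hcomm : ∀ a ∈ A ⊓ C, ∀ v ∈ V, a * v = v * a := fun a ha v hv =>
      (mem_centralizer_iff.mp ha.2 v (hVW hv)).symm
    have hB : Cfsg.IsElementaryAbelian 2 ((A ⊓ C) ⊔ V) := by
      have hc' : IsMulCommutative ↥((A ⊓ C) ⊔ V) := H11.isMulCommutative_sup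
        (H11.isMulCommutative_of_le hAel.1 inf_le_left)
        (H11.isMulCommutative_of_commute fun a ha b hb => hWab a ha.1 b hb.1) hcomm
      refine ⟨hc', fun z hz => ?_⟩
      have hz' := hz
      rw [Subgroup.sup_eq_closure] at hz'
      induction hz' using Subgroup.closure_induction with
      | mem u hu => exact hu.elim (fun h => hAel.2 u h.1) (fun h => by rw [pow_two]; exact h.2)
      | one => exact one_pow 2
      | mul p q hp hq ihp ihq =>
        rw [← Subgroup.sup_eq_closure] at hp hq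
        rw [(show Commute p q from H11.comm_of_mulCommutative hc' hp hq).mul_pow, ihp hp, ihq hq, one_mul]
      | inv p hp ihp =>
        rw [← Subgroup.sup_eq_closure] at hp
        rw [inv_pow, ihp hp, inv_one]
    have hBA : Nat.card ↥((A ⊓ C) ⊔ V) ≤ Nat.card A :=
      hA.2.2 _ (sup_le (inf_le_left.trans hA.1) hVT) hB
    have hprod := H77.card_sup_mul_card_inf (A := A ⊓ C) (B := V) hcomm
    have hAcard : Nat.card A = Nat.card Ab * Nat.card ↥(A ⊓ C) := by
      let g : A →* X ⧸ C := (QuotientGroup.mk' C).comp A.subtype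
      have hgr : g.range = Ab := by rw [hAb, MonoidHom.range_comp, range_subtype]
      have hgk : g.ker = (A ⊓ C).subgroupOf A := by
        ext a
        simp [g, mem_subgroupOf]
      rw [← hgr, ← Subgroup.index_ker, ← Nat.card_congr (subgroupOfEquivOfLe (inf_le_left : A ⊓ C ≤ A)).toEquiv,
        ← hgk, Subgroup.index_mul_card]
    have hfix : Nat.card ↥(A ⊓ C ⊓ V) ≤ Nat.card (fixV Ab : AddSubgroup (Additive V)) := by
      let emb : ↥(A ⊓ C ⊓ V) → (fixV Ab : AddSubgroup (Additive V)) := fun v =>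
        ⟨Additive.ofMul ⟨v, v.2.2⟩, by
          rintro _ ⟨a, ha, rfl⟩
          refine Subtype.ext ?_
          show a * (v : X) * a⁻¹ = v
          rw [H11.comm_of_mulCommutative hAel.1 ha v.2.1.1, mul_inv_cancel_right]⟩
      refine Nat.card_le_card_of_injective emb fun v w h => Subtype.ext ?_
      exact congrArg (fun z : (fixV Ab : AddSubgroup (Additive V)) => ((z : Additive V).toMul : X)) h
    have hVcard : Nat.card (Additive V) = Nat.card V := rfl
    rw [hVcard] at hlt
    have hpos : 0 < Nat.card ↥(A ⊓ C) := Nat.card_pos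
    have : Nat.card ↥(A ⊓ C) * Nat.card V ≤
        Nat.card Ab * Nat.card ↥(A ⊓ C) * Nat.card (fixV Ab : AddSubgroup (Additive V)) := by
      rw [← hprod, ← hAcard]
      exact Nat.mul_le_mul hBA hfix
    have h' : Nat.card ↥(A ⊓ C) * Nat.card V ≤
        Nat.card ↥(A ⊓ C) * (Nat.card Ab * Nat.card (fixV Ab : AddSubgroup (Additive V))) := by
      calc Nat.card ↥(A ⊓ C) * Nat.card V ≤ _ := this
        _ = _ := by ring
    exact absurd (Nat.le_of_mul_le_mul_left h' hpos) (not_le.mpr hlt)
  -- Frattini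
  obtain ⟨R, hR⟩ := H86.exists_sylow_inf_normal T C
  set D := (T : Subgroup X) ⊓ C with hDdef
  have hFr : normalizer (D : Set X) ⊔ C = ⊤ := by
    have h := R.normalizer_sup_eq_top
    rwa [hR, subgroupOf_map_subtype] at h
  have hJD : Cfsg.thompsonSubgroupOf 2 D = Cfsg.thompsonSubgroupOf 2 (T : Subgroup X) := by
    have hle : Cfsg.thompsonSubgroupOf 2 (T : Subgroup X) ≤ D := le_inf (H77.thompson_le _) hJC
    have hm := H77.maxOrder_eq_of_thompson_le (S := (T : Subgroup X)) (S' := D) inf_le_left hle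
    exact le_antisymm (H77.thompson_mono ((H77.thompson_le D).trans inf_le_left) hm.ge)
      (H77.thompson_mono hle hm.le)
  intro x
  have hx : x ∈ normalizer (D : Set X) ⊔ C := hFr ▸ mem_top x
  obtain ⟨b, hb, c, hc', rfl⟩ := mem_sup_of_normal_right.mp hx
  refine ⟨b * c * b⁻¹, ?_, b, ?_, by group⟩
  · have hbc := hCn.conj_mem c hc' b
    refine (centralizer_le_normalizer _) ?_
    rw [mem_centralizer_iff]
    exact fun z hz => mem_centralizer_iff.mp hbc z (hZW hz)
  · have h := H1.normalizer_le_normalizer_thompsonSubgroupOf 2 D hb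
    rwa [hJD] at h

/-- Control of strong fusion by `{Z, J}` in all sections of an `S₄`-free group. -/
theorem sf_pairFam (hff : NoFF.{u}) {G : Type u} [Group G] [Finite G]
    (h4 : ¬ Cfsg.Involves (Equiv.Perm (Fin 4)) G) (X : Type u) [Group X] [Finite X]
    (hX : H73.IsSectionOf X G) : H73.SF pairFam.{u} 2 X := by
  haveI : Fact (Nat.Prime 2) := ⟨Nat.prime_two⟩
  refine H73.sf_of_sections pairFam_char ⟨zFun.{u}, Or.inl rfl⟩ (fun Y _ _ hY hc => ?_) X hX
  obtain ⟨T⟩ : Nonempty (Sylow 2 Y) := inferInstance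
  exact H73.sf_of_product pairFam_char (Or.inl rfl) (Or.inr rfl) T
    (factor hff (hY.not_involves h4) hc T)

theorem involves_qd_two_iff {G : Type u} [Group G] :
    Cfsg.Involves ↥(Cfsg.qd 2) G ↔ Cfsg.Involves (Equiv.Perm (Fin 4)) G := by
  obtain ⟨d⟩ := Cfsg.Agent.S2761.result
  constructor
  · rintro ⟨K, R, hR, ⟨e⟩⟩; exact ⟨K, R, hR, ⟨e.trans d⟩⟩
  · rintro ⟨K, R, hR, ⟨e⟩⟩; exact ⟨K, R, hR, ⟨e.trans d.symm⟩⟩

/-- The equivalence for the pair `{Z, J}` (the form of S1999). -/
theorem symm_four_free_iff (hff : NoFF.{u}) {G : Type u} [Group G] [Finite G] :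
    ¬ Cfsg.Involves (Equiv.Perm (Fin 4)) G ↔ ∀ (K R : Subgroup G) [(R.subgroupOf K).Normal],
      Cfsg.FamilyControlsStrongFusionIn 2 ({fun P : Subgroup (↥K ⧸ R.subgroupOf K) =>
          P ⊓ centralizer (P : Set (↥K ⧸ R.subgroupOf K)),
        fun P : Subgroup (↥K ⧸ R.subgroupOf K) => Cfsg.thompsonSubgroupOf 2 P} :
          Set (Subgroup (↥K ⧸ R.subgroupOf K) → Subgroup (↥K ⧸ R.subgroupOf K))) ⊤ := by
  haveI : Fact (Nat.Prime 2) := ⟨Nat.prime_two⟩
  refine ⟨fun h K R _ => ?_, fun h hinv => ?_⟩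
  · have h1 := sf_pairFam hff h _ (H73.isSectionOf_quotient K R)
    rw [H73.SF, famOf_pairFam] at h1
    exact h1
  · obtain ⟨K, R, hR, ⟨e⟩⟩ := involves_qd_two_iff.mpr hinv
    haveI := hR
    have h1 := h K R
    rw [← famOf_pairFam] at h1
    exact H73.not_familyControlsStrongFusion_qd e pairFam_char h1

/-- `Qd(p)`-free if and only if some set of functors controls fusion in all sections (the form of S2000). -/
theorem qd_free_iff (hff : NoFF.{u}) {G : Type u} [Group G] [Finite G] {p : ℕ} [Fact p.Prime] :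
    ¬ Cfsg.Involves ↥(Cfsg.qd p) G ↔ ∃ 𝓦 : Set (∀ (Q : Type u) [Group Q], Subgroup Q),
      (∀ W ∈ 𝓦, Cfsg.IsCharPFunctor.{u} p W) ∧ ∀ (K R : Subgroup G) [(R.subgroupOf K).Normal],
        Cfsg.FamilyControlsStrongFusionIn p
          ((fun W => Cfsg.inducedFunctor (G := (↥K ⧸ R.subgroupOf K)) W) '' 𝓦) ⊤ := by
  constructor
  · intro h
    rcases eq_or_ne p 2 with rfl | hp
    · exact ⟨pairFam, pairFam_char, fun K R _ =>
        sf_pairFam hff (fun hi => h (involves_qd_two_iff.mpr hi)) _ (H73.isSectionOf_quotient K R)⟩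
    · exact ⟨{Cfsg.kInfLower.{u}}, fun W hW => by
        rw [Set.mem_singleton_iff] at hW; subst hW; exact H73.kInfLower_isCharPFunctor,
        fun K R _ => H73.sf_of_qdFree hp h _ (H73.isSectionOf_quotient K R)⟩
  · rintro ⟨𝓦, h𝓦, h⟩ ⟨K, R, hR, ⟨e⟩⟩
    haveI := hR
    exact H73.not_familyControlsStrongFusion_qd e h𝓦 (h K R)

end H10.S4Wrap
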