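import Cfsg.Prelude.Def_Blocks
import Cfsg.Agent.H68.PPrimeKernel
import Cfsg.Agent.H4.ThreeDegrees.Tools
import Cfsg.Agent.H24.Quot

/-!
# The sum of the squares of the degrees prime to `p` against a Sylow normaliser
-/

set_option autoImplicit false
set_option linter.unusedSectionVars false
set_option linter.style.haveILetI false

open Cfsg
open scoped ComplexConjugate Pointwise commutatorElement

namespace H10.SquareSum

universe u

variable {G : Type u} [Group G] [Finite G]

/-- The sum of the squares of the degrees prime to `p`. -/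
noncomputable def nsq (p : ℕ) (X : Type u) [Group X] [Finite X] : ℕ :=
  haveI := Fintype.ofFinite X
  ∑ χ ∈ (Finset.univ : Finset (IrrCharacter X)).filter
    (fun χ : IrrCharacter X => ¬ p ∣ H12.degree (χ : X → ℂ)), H12.degree (χ : X → ℂ) ^ 2

theorem nsq_eq (p : ℕ) (X : Type u) [Group X] [Fintype X] :
    nsq p X = ∑ χ ∈ (Finset.univ : Finset (IrrCharacter X)).filter
      (fun χ : IrrCharacter X => ¬ p ∣ H12.degree (χ : X → ℂ)), H12.degree (χ : X → ℂ) ^ 2 := by
  unfold nsq
  convert rfl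

theorem finsum_eq_nsq (p : ℕ) :
    ∑ᶠ χ : {χ : Cfsg.IrrCharacter G // ¬ p ∣ Cfsg.charDegree (χ : G → ℂ)},
      Cfsg.charDegree (χ.1 : G → ℂ) ^ 2 = nsq p G := by
  classical
  haveI := Fintype.ofFinite G
  haveI : Fintype {χ : Cfsg.IrrCharacter G // ¬ p ∣ Cfsg.charDegree (χ : G → ℂ)} :=
    Fintype.ofFinite _
  rw [finsum_eq_sum_of_fintype, nsq_eq]
  exact (Finset.sum_subtype _ (fun χ => by simp; rfl)
    (fun χ : IrrCharacter G => charDegree (χ : G → ℂ) ^ 2)).symm

/-- Evaluation at an element of the decomposition of a restriction. -/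
theorem res_eval [Fintype G] (H : Subgroup G) [Fintype H] (χ : IrrCharacter G) (h : H) :
    (χ : G → ℂ) h = ∑ ψ : IrrCharacter H,
      classInner (fun x : H => (χ : G → ℂ) x) (ψ : H → ℂ) * (ψ : H → ℂ) h :=
  H12.classFunction_apply_eq_sum (H12.IsCharacter.isClassFunction
    (H12.IsCharacter.res (H12.isCharacter_irr χ) H)) h

theorem exists_mult_res [Fintype G] (H : Subgroup G) [Fintype H] (χ : IrrCharacter G) :
    ∃ m : IrrCharacter H → ℕ,
      (∀ ψ : IrrCharacter H, classInner (fun x : H => (χ : G → ℂ) x) (ψ : H → ℂ) = m ψ) ∧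
      (∀ h : H, (χ : G → ℂ) h = ∑ ψ : IrrCharacter H, (m ψ : ℂ) * (ψ : H → ℂ) h) ∧
      H12.degree (χ : G → ℂ) = ∑ ψ : IrrCharacter H, m ψ * H12.degree (ψ : H → ℂ) := by
  have hm : ∀ ψ : IrrCharacter H, ∃ k : ℕ,
      classInner (fun x : H => (χ : G → ℂ) x) (ψ : H → ℂ) = k := fun ψ =>
    H12.IsCharacter.classInner_nat (H12.IsCharacter.res (H12.isCharacter_irr χ) H)
      (H12.isCharacter_irr ψ)
  choose m hm using hm
  have hev : ∀ h : H, (χ : G → ℂ) h = ∑ ψ : IrrCharacter H, (m ψ : ℂ) * (ψ : H → ℂ) h := by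
    intro h
    rw [res_eval H χ h]
    simp only [hm]
  refine ⟨m, hm, hev, ?_⟩
  have h1 := hev 1
  simp only [OneMemClass.coe_one, H12.irr_apply_one] at h1
  exact_mod_cast h1

/-- In a group with a normal Sylow subgroup `P`: degree prime to `p` iff `P'` is in the kernel. -/
theorem not_dvd_iff_kills (p : ℕ) [Fact p.Prime] (P : Sylow p G) [hP : (P : Subgroup G).Normal]
    (χ : IrrCharacter G) :
    ¬ p ∣ H12.degree (χ : G → ℂ) ↔
      ∀ x ∈ ⁅(P : Subgroup G), (P : Subgroup G)⁆, (χ : G → ℂ) x = (χ : G → ℂ) 1 := by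
  classical
  haveI := Fintype.ofFinite G
  constructor
  · intro hd x hx
    refine H68.PPrimeKernel.kernel_of_core p P ⊥ (bot_inf_eq _)
      ⁅(P : Subgroup G), (P : Subgroup G)⁆ bot_le (by rw [bot_sup_eq]) χ hd ?_ x hx
    intro n hn
    rw [Subgroup.mem_bot.1 hn]
  · intro hk
    haveI : Fintype (P : Subgroup G) := Fintype.ofFinite _
    obtain ⟨θ, hθ⟩ : ∃ θ : IrrCharacter (P : Subgroup G),
        classInner (fun x : (P : Subgroup G) => (χ : G → ℂ) x) (θ : _ → ℂ) ≠ 0 := by
      by_contra h0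
      simp only [not_exists, not_not] at h0
      have := res_eval (P : Subgroup G) χ 1
      simp only [h0, zero_mul, Finset.sum_const_zero, OneMemClass.coe_one] at this
      exact H12.irr_apply_one_ne_zero χ this
    have h1 : H12.degree (θ : ↥(P : Subgroup G) → ℂ) = 1 := by
      refine H4.ThreeDeg.degree_one_of_kills θ fun g hg => ?_
      refine H68.PPrimeKernel.kernel_of_constituent (P : Subgroup G) (H12.isCharacter_irr χ) θ hθ g
        (hk g ?_)
      rw [← Subgroup.map_subtype_commutator]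
      exact Subgroup.mem_map.2 ⟨g, hg, rfl⟩
    obtain ⟨e, he, hei⟩ := H4.ThreeDeg.ratio_of_constituent (P : Subgroup G) χ θ hθ
    rw [he, h1, mul_one]
    exact fun h => P.not_dvd_index (h.trans hei)

/-- An element killed by all characters killing a normal subgroup lies in it. -/
theorem mem_of_kills (L : Subgroup G) [L.Normal] {x : G}
    (h : ∀ χ : IrrCharacter G, (∀ y ∈ L, (χ : G → ℂ) y = (χ : G → ℂ) 1) →
      (χ : G → ℂ) x = (χ : G → ℂ) 1) : x ∈ L := by
  haveI := Fintype.ofFinite G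
  rw [← QuotientGroup.eq_one_iff]
  refine H4.ThreeDeg.eq_one_of_kills fun ψ => ?_
  have h1 := h (H24.inflate L ψ) fun y hy => by
    rw [H24.inflate_apply, H24.inflate_apply, (QuotientGroup.eq_one_iff y).2 hy, QuotientGroup.mk_one]
  rw [H24.inflate_apply, H24.inflate_apply, QuotientGroup.mk_one] at h1
  exact h1

/-- The square sum for a group with a normal Sylow subgroup. -/
theorem nsq_mul_of_normal (p : ℕ) [Fact p.Prime] (P : Sylow p G) [hP : (P : Subgroup G).Normal] :
    Nat.card (commutator ↥(P : Subgroup G)) * nsq p G = Nat.card G := by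
  classical
  haveI := Fintype.ofFinite G
  let L : Subgroup G := ⁅(P : Subgroup G), (P : Subgroup G)⁆
  haveI : L.Normal := Subgroup.commutator_normal _ _
  have hL : Nat.card (commutator ↥(P : Subgroup G)) = Nat.card L := by
    rw [show L = (commutator ↥(P : Subgroup G)).map (P : Subgroup G).subtype from
      (Subgroup.map_subtype_commutator _).symm,
      Subgroup.card_map_of_injective (P : Subgroup G).subtype_injective]
  haveI : Fintype (G ⧸ L) := Fintype.ofFinite _
  have hsum : nsq p G = Nat.card (G ⧸ L) := by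
    rw [nsq_eq, ← H12.sum_degree_sq_nat (G := G ⧸ L)]
    symm
    refine Finset.sum_bij (fun ψ _ => H24.inflate L ψ) ?_ ?_ ?_ ?_
    · intro ψ _
      refine Finset.mem_filter.2 ⟨Finset.mem_univ _, (not_dvd_iff_kills p P _).2 fun x hx => ?_⟩
      rw [H24.inflate_apply, H24.inflate_apply, (QuotientGroup.eq_one_iff x).2 hx,
        QuotientGroup.mk_one]
    · intro a _ b _ h
      exact H24.inflate_injective L h
    · intro χ hχ
      obtain ⟨ψ, hψ⟩ := H24.exists_deflate L χ fun x hx =>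
        H24.mem_kerChar.2 ((not_dvd_iff_kills p P χ).1 (Finset.mem_filter.1 hχ).2 x hx)
      exact ⟨ψ, Finset.mem_univ _, hψ⟩
    · intro ψ _
      congr 1
  rw [hsum, hL, mul_comm, ← Subgroup.card_eq_card_quotient_mul_card_subgroup]

variable (p : ℕ) [Fact p.Prime]

/-- The normaliser of a Sylow subgroup, its Sylow subgroup being normal. -/
theorem subtype_normal (P : Sylow p G) :
    ((P.subtype (Subgroup.le_normalizer (H := (P : Subgroup G)))) :
      Subgroup ↥(Subgroup.normalizer ((P : Subgroup G) : Set G))).Normal := by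
  rw [Sylow.coe_subtype]
  exact Subgroup.normal_in_normalizer

theorem card_comm_subtype (P : Sylow p G) {N : Subgroup G} (h : (P : Subgroup G) ≤ N) :
    Nat.card (commutator ↥((P.subtype h : Sylow p N) : Subgroup N)) =
      Nat.card (commutator ↥(P : Subgroup G)) := by
  let e : ↥((P.subtype h : Sylow p N) : Subgroup N) ≃* ↥(P : Subgroup G) :=
    (MulEquiv.subgroupCongr (Sylow.coe_subtype P h)).trans (Subgroup.subgroupOfEquivOfLe h)
  have h1 : (commutator ↥((P.subtype h : Sylow p N) : Subgroup N)).map e.toMonoidHom =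
      commutator ↥(P : Subgroup G) := by
    rw [commutator_def, Subgroup.map_commutator,
      Subgroup.map_top_of_surjective _ e.surjective, commutator_def]
  rw [← h1, Subgroup.card_map_of_injective e.injective]

theorem nsq_normalizer (P : Sylow p G) :
    Nat.card (commutator ↥(P : Subgroup G)) *
      nsq p ↥(Subgroup.normalizer ((P : Subgroup G) : Set G)) =
        Nat.card (Subgroup.normalizer ((P : Subgroup G) : Set G)) := by
  haveI := subtype_normal p P
  rw [← nsq_mul_of_normal p (P.subtype (Subgroup.le_normalizer (H := (P : Subgroup G)))),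
    card_comm_subtype]

/-- Restriction to `N` sends the characters of degree prime to `p` onto those of `N`. -/
def Restr (N : Subgroup G) : Prop :=
  (∀ χ : IrrCharacter G, ¬ p ∣ H12.degree (χ : G → ℂ) →
    ∃ ψ : IrrCharacter N, ¬ p ∣ H12.degree (ψ : N → ℂ) ∧ ∀ x : N, (χ : G → ℂ) x = (ψ : N → ℂ) x) ∧
  (∀ ψ : IrrCharacter N, ¬ p ∣ H12.degree (ψ : N → ℂ) →
    ∃ χ : IrrCharacter G, ¬ p ∣ H12.degree (χ : G → ℂ) ∧ ∀ x : N, (χ : G → ℂ) x = (ψ : N → ℂ) x)

theorem sq_le_aux {ι : Type*} (s : Finset ι) (a : ι → ℕ) (c : ℕ) (h : ∑ i ∈ s, a i ≤ c) :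
    ∑ i ∈ s, a i ^ 2 ≤ c ^ 2 :=
  (Finset.sum_sq_le_sq_sum_of_nonneg fun i _ => Nat.zero_le _).trans (Nat.pow_le_pow_left h 2)

theorem singleton_of_eq {ι : Type*} (s : Finset ι) (a : ι → ℕ) (c : ℕ) (hc : 0 < c)
    (h : ∑ i ∈ s, a i ≤ c) (heq : ∑ i ∈ s, a i ^ 2 = c ^ 2) : ∃ i ∈ s, a i = c := by
  by_contra hno
  have hlt : ∀ i ∈ s, a i < c := fun i hi =>
    lt_of_le_of_ne ((Finset.single_le_sum (fun j _ => Nat.zero_le (a j)) hi).trans h)
      fun e => hno ⟨i, hi, e⟩
  have h1 : ∑ i ∈ s, a i ^ 2 ≤ ∑ i ∈ s, a i * (c - 1) := by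
    refine Finset.sum_le_sum fun i hi => ?_
    rw [sq]
    exact Nat.mul_le_mul_left _ (by have := hlt i hi; omega)
  rw [← Finset.sum_mul, heq] at h1
  have h2 : c ^ 2 ≤ c * (c - 1) := h1.trans (Nat.mul_le_mul_right _ h)
  rw [sq] at h2
  have := Nat.le_of_mul_le_mul_left h2 hc
  omega

/-- The inequality and what equality forces. -/
theorem nsq_le (N : Subgroup G) (hi : ¬ p ∣ N.index) :
    nsq p N ≤ nsq p G ∧ (nsq p N = nsq p G → Restr p N) := by
  classical
  haveI := Fintype.ofFinite G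
  haveI := Fintype.ofFinite N
  set S := (Finset.univ : Finset (IrrCharacter G)).filter
    (fun χ : IrrCharacter G => ¬ p ∣ H12.degree (χ : G → ℂ)) with hS
  set T := (Finset.univ : Finset (IrrCharacter N)).filter
    (fun χ : IrrCharacter N => ¬ p ∣ H12.degree (χ : N → ℂ)) with hT
  let f : IrrCharacter N → IrrCharacter G := fun ψ =>
    if h : ¬ p ∣ H12.degree (ψ : N → ℂ) then
      Classical.choose (H68.PPrimeKernel.exists_pPrime_constituent p N ψ hi h)
    else H12.oneIrr G
  have hfspec : ∀ ψ ∈ T, ¬ p ∣ H12.degree (f ψ : G → ℂ) ∧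
      classInner (fun x : N => (f ψ : G → ℂ) x) (ψ : N → ℂ) ≠ 0 := by
    intro ψ hψ
    have h := (Finset.mem_filter.1 hψ).2
    simp only [f, dif_pos h]
    exact Classical.choose_spec (H68.PPrimeKernel.exists_pPrime_constituent p N ψ hi h)
  have hmaps : ∀ ψ ∈ T, f ψ ∈ S := fun ψ hψ =>
    Finset.mem_filter.2 ⟨Finset.mem_univ _, (hfspec ψ hψ).1⟩
  have hfib : ∀ χ : IrrCharacter G,
      ∑ ψ ∈ T.filter (fun ψ => f ψ = χ), H12.degree (ψ : N → ℂ) ≤ H12.degree (χ : G → ℂ) := by
    intro χ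
    obtain ⟨m, hm, -, hdeg⟩ := exists_mult_res N χ
    rw [hdeg]
    refine le_trans (Finset.sum_le_sum fun ψ hψ => ?_)
      (Finset.sum_le_sum_of_subset (Finset.subset_univ _))
    obtain ⟨hψT, rfl⟩ := Finset.mem_filter.1 hψ
    have h0 : m ψ ≠ 0 := by
      intro e
      apply (hfspec ψ hψT).2
      rw [hm, e, Nat.cast_zero]
    exact Nat.le_mul_of_pos_left _ (Nat.pos_of_ne_zero h0)
  have hN : nsq p N =
      ∑ χ ∈ S, ∑ ψ ∈ T.filter (fun ψ => f ψ = χ), H12.degree (ψ : N → ℂ) ^ 2 := by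
    rw [nsq_eq, Finset.sum_fiberwise_of_maps_to hmaps]
  have hle : ∀ χ ∈ S, ∑ ψ ∈ T.filter (fun ψ => f ψ = χ), H12.degree (ψ : N → ℂ) ^ 2 ≤
      H12.degree (χ : G → ℂ) ^ 2 := fun χ _ => sq_le_aux _ _ _ (hfib χ)
  refine ⟨?_, fun heq => ?_⟩
  · rw [hN, nsq_eq]; exact Finset.sum_le_sum hle
  · have heq' : ∀ χ ∈ S, ∑ ψ ∈ T.filter (fun ψ => f ψ = χ), H12.degree (ψ : N → ℂ) ^ 2 =
        H12.degree (χ : G → ℂ) ^ 2 := by
      refine (Finset.sum_eq_sum_iff_of_le hle).1 ?_
      rw [← hN, heq, nsq_eq]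
    have key : ∀ χ ∈ S, ∃ ψ ∈ T, f ψ = χ ∧
        T.filter (fun ψ => f ψ = χ) = {ψ} ∧ ∀ x : N, (χ : G → ℂ) x = (ψ : N → ℂ) x := by
      intro χ hχ
      obtain ⟨ψ, hψ, hψc⟩ := singleton_of_eq _ _ _ (H12.irr_degree_pos χ) (hfib χ) (heq' χ hχ)
      obtain ⟨hψT, hfψ⟩ := Finset.mem_filter.1 hψ
      obtain ⟨m, hm, hev, hdeg⟩ := exists_mult_res N χ
      have h0 : 1 ≤ m ψ := by
        refine Nat.one_le_iff_ne_zero.2 fun e => (hfspec ψ hψT).2 ?_
        rw [hfψ, hm, e, Nat.cast_zero]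
      have hsplit := Finset.add_sum_erase Finset.univ
        (fun φ : IrrCharacter N => m φ * H12.degree (φ : N → ℂ)) (Finset.mem_univ ψ)
      rw [← hdeg, hψc] at hsplit
      have hpos := H12.irr_degree_pos χ
      have hmψ : m ψ = 1 := by
        by_contra h
        have : 2 * H12.degree (χ : G → ℂ) ≤ m ψ * H12.degree (χ : G → ℂ) :=
          Nat.mul_le_mul_right _ (by omega)
        omega
      rw [hmψ, one_mul] at hsplit
      have hz : ∀ φ, φ ≠ ψ → m φ = 0 := by
        intro φ hφ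
        have h := (Finset.sum_eq_zero_iff.1 (by omega :
          ∑ x ∈ Finset.univ.erase ψ, m x * H12.degree (x : N → ℂ) = 0)) φ
          (Finset.mem_erase.2 ⟨hφ, Finset.mem_univ _⟩)
        exact (Nat.mul_eq_zero.1 h).resolve_right (H12.irr_degree_pos φ).ne'
      refine ⟨ψ, hψT, hfψ, ?_, fun x => ?_⟩
      · refine Finset.eq_singleton_iff_unique_mem.2 ⟨hψ, fun φ hφ => ?_⟩
        by_contra hne
        obtain ⟨hφT, hfφ⟩ := Finset.mem_filter.1 hφ
        apply (hfspec φ hφT).2
        rw [hfφ, hm, hz φ hne, Nat.cast_zero]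
      · rw [hev x, Finset.sum_eq_single ψ (fun φ _ hφ => by rw [hz φ hφ, Nat.cast_zero, zero_mul])
          (fun h => absurd (Finset.mem_univ ψ) h), hmψ, Nat.cast_one, one_mul]
    refine ⟨fun χ hχ => ?_, fun ψ hψ => ?_⟩
    · obtain ⟨ψ, hψT, -, -, hres⟩ := key χ (Finset.mem_filter.2 ⟨Finset.mem_univ _, hχ⟩)
      exact ⟨ψ, (Finset.mem_filter.1 hψT).2, hres⟩
    · have hψT : ψ ∈ T := Finset.mem_filter.2 ⟨Finset.mem_univ _, hψ⟩
      obtain ⟨φ, -, -, hsing, hres⟩ := key (f ψ) (hmaps ψ hψT)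
      have hmem : ψ ∈ T.filter (fun x => f x = f ψ) := Finset.mem_filter.2 ⟨hψT, rfl⟩
      rw [hsing, Finset.mem_singleton] at hmem
      exact ⟨f ψ, (hfspec ψ hψT).1, fun x => by rw [hres x, hmem]⟩

/-- Square sums through a normal subgroup of index prime to `p`. -/
theorem nsq_normal_index (M : Subgroup G) [M.Normal] (hi : ¬ p ∣ M.index) :
    M.index * nsq p M = nsq p G := by
  classical
  haveI := Fintype.ofFinite G
  haveI := Fintype.ofFinite M
  set T := (Finset.univ : Finset (IrrCharacter M)).filter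
    (fun χ : IrrCharacter M => ¬ p ∣ H12.degree (χ : M → ℂ)) with hT
  have hdv : ∀ (χ : IrrCharacter G) (θ : IrrCharacter M),
      classInner (fun n : M => (χ : G → ℂ) n) (θ : M → ℂ) ≠ 0 →
      (p ∣ H12.degree (χ : G → ℂ) ↔ p ∣ H12.degree (θ : M → ℂ)) := by
    intro χ θ h
    obtain ⟨e, he, hei⟩ := H4.ThreeDeg.ratio_of_constituent M χ θ h
    rw [he]
    refine ⟨fun hd => ((Nat.Prime.dvd_mul Fact.out).1 hd).resolve_left fun h' => hi (h'.trans hei),
      fun hd => dvd_mul_of_dvd_right hd e⟩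
  -- the degree of the sum of induced characters
  have hA : ∀ χ : IrrCharacter G,
      (∑ θ ∈ T, (H12.degree (θ : M → ℂ) : ℂ) *
        classInner (indFun M (θ : M → ℂ)) (χ : G → ℂ)) =
        if ¬ p ∣ H12.degree (χ : G → ℂ) then (H12.degree (χ : G → ℂ) : ℂ) else 0 := by
    intro χ
    obtain ⟨m, hm, -, hdeg⟩ := exists_mult_res M χ
    have hin : ∀ θ : IrrCharacter M,
        classInner (indFun M (θ : M → ℂ)) (χ : G → ℂ) = (m θ : ℂ) := by
      intro θ
      rw [H13.classInner_indFun_left M _ (H12.irr_isClassFunction χ), ← H12.conj_classInner, hm,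
        Complex.conj_natCast]
    simp only [hin]
    have hzero : ∀ θ : IrrCharacter M,
        ¬ (p ∣ H12.degree (χ : G → ℂ) ↔ p ∣ H12.degree (θ : M → ℂ)) → m θ = 0 := by
      intro θ h
      by_contra h0
      exact h (hdv χ θ (by rw [hm]; exact Nat.cast_ne_zero.2 h0))
    by_cases hχ : p ∣ H12.degree (χ : G → ℂ)
    · rw [if_neg (not_not.2 hχ)]
      refine Finset.sum_eq_zero fun θ hθ => ?_
      rw [hzero θ (fun h => (Finset.mem_filter.1 hθ).2 (h.1 hχ)), Nat.cast_zero, mul_zero]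
    · rw [if_pos hχ, hdeg, Nat.cast_sum]
      refine (Finset.sum_subset (Finset.subset_univ T) fun θ _ hθ => ?_).trans ?_
      · have hθ' : p ∣ H12.degree (θ : M → ℂ) := by
          by_contra h
          exact hθ (Finset.mem_filter.2 ⟨Finset.mem_univ _, h⟩)
        rw [hzero θ (fun h => hχ (h.2 hθ')), Nat.cast_zero, mul_zero]
      · exact Finset.sum_congr rfl fun θ _ => by rw [Nat.cast_mul, mul_comm]
  have hB : ∀ θ : IrrCharacter M, indFun M (θ : M → ℂ) 1 = ∑ χ : IrrCharacter G,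
      classInner (indFun M (θ : M → ℂ)) (χ : G → ℂ) * (χ : G → ℂ) 1 := fun θ =>
    H12.classFunction_apply_eq_sum (H13.indFun_isClassFunction M _) 1
  have h1 : ((M.index * nsq p M : ℕ) : ℂ) =
      ∑ θ ∈ T, (H12.degree (θ : M → ℂ) : ℂ) * indFun M (θ : M → ℂ) 1 := by
    rw [nsq_eq, Nat.cast_mul, Nat.cast_sum, Finset.mul_sum]
    refine Finset.sum_congr rfl fun θ _ => ?_
    rw [H13.indFun_apply_one, H12.irr_apply_one, Nat.cast_pow]
    ring
  have h2 : ((nsq p G : ℕ) : ℂ) = ∑ χ : IrrCharacter G,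
      (∑ θ ∈ T, (H12.degree (θ : M → ℂ) : ℂ) *
        classInner (indFun M (θ : M → ℂ)) (χ : G → ℂ)) * (χ : G → ℂ) 1 := by
    rw [nsq_eq, Nat.cast_sum, Finset.sum_filter]
    refine Finset.sum_congr rfl fun χ _ => ?_
    rw [hA χ, ite_mul, zero_mul, H12.irr_apply_one, Nat.cast_pow, sq]
  have h3 : ((M.index * nsq p M : ℕ) : ℂ) = ((nsq p G : ℕ) : ℂ) := by
    rw [h1, h2]
    simp only [hB, Finset.mul_sum, Finset.sum_mul]
    rw [Finset.sum_comm]
    exact Finset.sum_congr rfl fun χ _ => Finset.sum_congr rfl fun θ _ => by ring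
  exact_mod_cast h3

/-- The common kernel of all characters satisfying a condition. -/
noncomputable def commonKer (S : IrrCharacter G → Prop) : Subgroup G :=
  ⨅ (χ : IrrCharacter G) (_ : S χ), H24.kerChar χ

theorem mem_commonKer {S : IrrCharacter G → Prop} {x : G} :
    x ∈ commonKer S ↔ ∀ χ : IrrCharacter G, S χ → (χ : G → ℂ) x = (χ : G → ℂ) 1 := by
  simp only [commonKer, Subgroup.mem_iInf, H24.mem_kerChar]

instance commonKer_normal (S : IrrCharacter G → Prop) : (commonKer S).Normal :=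
  Subgroup.normal_iInf_normal fun _ => Subgroup.normal_iInf_normal fun _ => inferInstance

/-- Equality forces a normal complement to the normaliser. -/
theorem exists_complement (P : Sylow p G)
    (heq : nsq p ↥(Subgroup.normalizer ((P : Subgroup G) : Set G)) = nsq p G) :
    ∃ K : Subgroup G, K.Normal ∧ K ⊓ Subgroup.normalizer ((P : Subgroup G) : Set G) = ⊥ ∧
      K ⊔ Subgroup.normalizer ((P : Subgroup G) : Set G) = ⊤ := by
  classical
  haveI := Fintype.ofFinite G
  set N := Subgroup.normalizer ((P : Subgroup G) : Set G) with hNdef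
  haveI := Fintype.ofFinite N
  have hPN : (P : Subgroup G) ≤ N := Subgroup.le_normalizer
  have hiN : ¬ p ∣ N.index := fun h => P.not_dvd_index (h.trans (Subgroup.index_dvd_of_le hPN))
  obtain ⟨hres, hsurj⟩ := (nsq_le p N hiN).2 heq
  let PN : Sylow p N := P.subtype hPN
  haveI hPNn : (PN : Subgroup N).Normal := subtype_normal p P
  have hPNmem : ∀ x : N, x ∈ (PN : Subgroup N) ↔ (x : G) ∈ (P : Subgroup G) := fun x => by
    rw [Sylow.coe_subtype, Subgroup.mem_subgroupOf]
  have hPP : ⁅(PN : Subgroup N), (PN : Subgroup N)⁆ ≤ (PN : Subgroup N) :=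
    Subgroup.commutator_le.2 fun a ha b hb =>
      mul_mem (mul_mem (mul_mem ha hb) (inv_mem ha)) (inv_mem hb)
  -- the kernel `M` of the characters trivial on `P`
  let SP : IrrCharacter G → Prop := fun χ => ¬ p ∣ H12.degree (χ : G → ℂ) ∧
    ∀ x ∈ (P : Subgroup G), (χ : G → ℂ) x = (χ : G → ℂ) 1
  let M : Subgroup G := commonKer SP
  haveI hMn : M.Normal := commonKer_normal SP
  haveI := Fintype.ofFinite M
  have hPM : (P : Subgroup G) ≤ M := fun x hx => mem_commonKer.2 fun χ hχ => hχ.2 x hx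
  have hMN : ∀ x, x ∈ M → x ∈ N → x ∈ (P : Subgroup G) := by
    intro x hxM hxN
    refine (hPNmem ⟨x, hxN⟩).1 (mem_of_kills (PN : Subgroup N) fun ψ hψ => ?_)
    have hψp : ¬ p ∣ H12.degree (ψ : N → ℂ) :=
      (not_dvd_iff_kills p PN ψ).2 fun y hy => hψ y (hPP hy)
    obtain ⟨χ, hχ, hχN⟩ := hsurj ψ hψp
    have h1 : (χ : G → ℂ) 1 = (ψ : N → ℂ) 1 := by simpa using hχN 1
    have hSP : SP χ := ⟨hχ, fun y hy => by
      have h2 := hχN ⟨y, hPN hy⟩
      rw [h2, hψ _ ((hPNmem ⟨y, hPN hy⟩).2 hy), h1]⟩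
    have h3 := mem_commonKer.1 hxM χ hSP
    rw [← hχN ⟨x, hxN⟩, h3, h1]
  have hFrat : N ⊔ M = ⊤ := Sylow.normalizer_sup_eq_top' P hPM
  have hiM : ¬ p ∣ M.index := fun h => P.not_dvd_index (h.trans (Subgroup.index_dvd_of_le hPM))
  have hindex : M.index * Nat.card ↥(P : Subgroup G) = Nat.card N := by
    have h1 : (M.subgroupOf N).index = M.index := by
      have := Subgroup.relIndex_sup_right N M
      rw [hFrat, Subgroup.relIndex_top_right] at this
      exact this.symm
    have h2 : M.subgroupOf N = (P : Subgroup G).subgroupOf N := by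
      ext x
      exact ⟨fun hx => hMN x hx x.2, fun hx => hPM hx⟩
    rw [← h1, h2, ← Nat.card_congr (Subgroup.subgroupOfEquivOfLe hPN).toEquiv,
      mul_comm, Subgroup.card_mul_index]
  -- characters of `M` of degree prime to `p` are linear
  let PM : Sylow p M := P.subtype hPM
  let NM := Subgroup.normalizer ((PM : Subgroup M) : Set M)
  haveI := Fintype.ofFinite NM
  have hPMmem : ∀ x : M, x ∈ (PM : Subgroup M) ↔ (x : G) ∈ (P : Subgroup G) := fun x => by
    rw [Sylow.coe_subtype, Subgroup.mem_subgroupOf]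
  have hNMeq : NM = (PM : Subgroup M) := by
    refine le_antisymm (fun x hx => (hPMmem x).2 (hMN x x.2 ?_)) Subgroup.le_normalizer
    refine Subgroup.mem_normalizer_iff.2 fun y => ⟨fun hy => ?_, fun hy => ?_⟩
    · have := (hPMmem _).1 ((Subgroup.mem_normalizer_iff.1 hx ⟨y, hPM hy⟩).1 ((hPMmem _).2 hy))
      simpa using this
    · have hyM : y ∈ M := by
        have := hMn.conj_mem _ (hPM hy) (x : G)⁻¹
        simpa [mul_assoc] using this
      exact (hPMmem ⟨y, hyM⟩).1 ((Subgroup.mem_normalizer_iff.1 hx ⟨y, hyM⟩).2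
        ((hPMmem _).2 (by simpa using hy)))
  have hiNM : ¬ p ∣ NM.index := by rw [hNMeq]; exact PM.not_dvd_index
  have heqM : nsq p NM = nsq p M := by
    have h1 := nsq_normalizer p PM
    rw [card_comm_subtype p P hPM] at h1
    have h2 := nsq_normalizer p P
    rw [← hNdef, heq, ← nsq_normal_index p M hiM, ← hindex] at h2
    have h3 : Nat.card NM = Nat.card ↥(P : Subgroup G) := by
      rw [hNMeq, Sylow.coe_subtype, Nat.card_congr (Subgroup.subgroupOfEquivOfLe hPM).toEquiv]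
    rw [h3] at h1
    have hi0 : 0 < M.index := Nat.pos_of_ne_zero Subgroup.index_ne_zero_of_finite
    have hc : 0 < Nat.card (commutator ↥(P : Subgroup G)) := Nat.card_pos
    rw [← h1] at h2
    exact (Nat.eq_of_mul_eq_mul_left (Nat.mul_pos hi0 hc) (by linarith [h2])).symm
  have hlin : ∀ θ : IrrCharacter M, ¬ p ∣ H12.degree (θ : M → ℂ) →
      H12.degree (θ : M → ℂ) = 1 := by
    intro θ hθ
    obtain ⟨ψ, hψ, hψN⟩ := ((nsq_le p NM hiNM).2 heqM).1 θ hθ
    let Q : Sylow p NM := PM.subtype (Subgroup.le_normalizer)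
    haveI : (Q : Subgroup NM).Normal := subtype_normal p PM
    have hQ : (Q : Subgroup NM) = ⊤ := by
      rw [Sylow.coe_subtype, Subgroup.subgroupOf_eq_top]
      exact hNMeq.le
    have hk := (not_dvd_iff_kills p Q ψ).1 hψ
    rw [hQ, ← commutator_def] at hk
    have h1 := H4.ThreeDeg.degree_one_of_kills ψ hk
    have h2 : (θ : M → ℂ) 1 = (ψ : NM → ℂ) 1 := by simpa using hψN 1
    rw [H12.irr_apply_one, H12.irr_apply_one, h1] at h2
    exact_mod_cast h2
  -- the common kernel
  let K : Subgroup G := commonKer fun χ => ¬ p ∣ H12.degree (χ : G → ℂ)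
  haveI hKn : K.Normal := commonKer_normal _
  have hKM : K ≤ M := fun x hx => mem_commonKer.2 fun χ hχ => mem_commonKer.1 hx χ hχ.1
  have hMK : ⁅M, M⁆ ≤ K := by
    rw [← Subgroup.map_subtype_commutator]
    rintro _ ⟨c, hc, rfl⟩
    refine mem_commonKer.2 fun χ hχ => ?_
    obtain ⟨m, hm, hev, hdeg⟩ := exists_mult_res M χ
    show (χ : G → ℂ) (c : G) = _
    rw [hev c, H12.irr_apply_one, hdeg, Nat.cast_sum]
    refine Finset.sum_congr rfl fun θ _ => ?_
    rcases Nat.eq_zero_or_pos (m θ) with h0 | h0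
    · simp [h0]
    obtain ⟨e, he, -⟩ := H4.ThreeDeg.ratio_of_constituent M χ θ
      (by rw [hm]; exact Nat.cast_ne_zero.2 h0.ne')
    have hθ : ¬ p ∣ H12.degree (θ : M → ℂ) := fun h => hχ (he ▸ dvd_mul_of_dvd_right h e)
    rw [H4.ThreeDeg.linear_kills θ (hlin θ hθ) hc, H12.irr_apply_one, Nat.cast_mul]
  let R : Subgroup G := K ⊔ (P : Subgroup G)
  have hRM : R ≤ M := sup_le hKM hPM
  haveI hRn : R.Normal := by
    refine ⟨fun r hr g => ?_⟩
    have hg : g ∈ ((N : Set G) * (M : Set G)) := by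
      rw [← Subgroup.mul_normal, hFrat]; trivial
    obtain ⟨n, hn, m, hm, rfl⟩ := hg
    have h1 : m * r * m⁻¹ ∈ R := by
      rw [show m * r * m⁻¹ = ⁅m, r⁆ * r by group]
      exact mul_mem (Subgroup.mem_sup_left (hMK (Subgroup.commutator_mem_commutator hm (hRM hr)))) hr
    have h2 : ∀ s ∈ R, n * s * n⁻¹ ∈ R := by
      intro s hs
      have hs' : s ∈ ((K : Set G) * ((P : Subgroup G) : Set G)) := by
        rw [← Subgroup.normal_mul]; exact hs
      obtain ⟨k, hk, x, hx, rfl⟩ := hs'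
      rw [show n * (k * x) * n⁻¹ = (n * k * n⁻¹) * (n * x * n⁻¹) by group]
      exact Subgroup.mul_mem_sup (hKn.conj_mem k hk n)
        ((Subgroup.mem_normalizer_iff.1 hn x).1 hx)
    rw [show n * m * r * (n * m)⁻¹ = n * (m * r * m⁻¹) * n⁻¹ by group]
    exact h2 _ h1
  have hNK : N ⊔ K = ⊤ := by
    have h1 : N ⊔ R = ⊤ := Sylow.normalizer_sup_eq_top' (N := R) P le_sup_right
    rw [← h1]
    exact le_antisymm (sup_le_sup_left le_sup_left N)
      (sup_le le_sup_left (sup_le le_sup_right (hPN.trans le_sup_left)))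
  -- `K ∩ N` lies in the derived subgroup of `P`
  have hKN : ∀ x, x ∈ K → x ∈ N → x ∈ ⁅(P : Subgroup G), (P : Subgroup G)⁆ := by
    intro x hxK hxN
    have h1 : (⟨x, hxN⟩ : N) ∈ ⁅(PN : Subgroup N), (PN : Subgroup N)⁆ := by
      refine mem_of_kills _ fun ψ hψ => ?_
      obtain ⟨χ, hχ, hχN⟩ := hsurj ψ ((not_dvd_iff_kills p PN ψ).2 hψ)
      have h1 : (χ : G → ℂ) 1 = (ψ : N → ℂ) 1 := by simpa using hχN 1
      rw [← hχN ⟨x, hxN⟩, mem_commonKer.1 hxK χ hχ, h1]
    have h2 := Subgroup.mem_map_of_mem N.subtype h1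
    rw [Subgroup.map_commutator] at h2
    refine Subgroup.commutator_mono ?_ ?_ h2 <;>
      · rintro _ ⟨y, hy, rfl⟩
        exact (hPNmem y).1 hy
  have hfr : K ⊓ (P : Subgroup G) ≤
      (frattini ↥(P : Subgroup G)).map (P : Subgroup G).subtype := by
    intro x hx
    have h1 := hKN x hx.1 (hPN hx.2)
    rw [← Subgroup.map_subtype_commutator] at h1
    exact Subgroup.map_mono (H6.commutator_le_frattini P.2) h1
  have hcomp := H5.hasNormalPComplement_of_le_frattini P K hfr
  rw [H5.hasNormalPComplement_iff_not_dvd] at hcomp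
  let L : Subgroup G := (Cfsg.pResidual p K).map K.subtype
  haveI hLn : L.Normal := inferInstance
  have hLK : L ≤ K := Subgroup.map_subtype_le _
  have hLp : ¬ p ∣ Nat.card L := by
    rw [Subgroup.card_map_of_injective K.subtype_injective]
    exact hcomp
  have hKLP : K ≤ L ⊔ (P : Subgroup G) := by
    have hq : IsPGroup p ↥(K.map (QuotientGroup.mk' L)) := by
      rintro ⟨y, hy⟩
      obtain ⟨k, hk, rfl⟩ := Subgroup.mem_map.1 hy
      obtain ⟨i, hi⟩ := H5.isPGroup_quotient_pResidual (p := p) (G := K)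
        (QuotientGroup.mk ⟨k, hk⟩)
      rw [← QuotientGroup.mk_pow, QuotientGroup.eq_one_iff] at hi
      refine ⟨i, Subtype.ext ?_⟩
      rw [SubgroupClass.coe_pow, OneMemClass.coe_one]
      exact (QuotientGroup.eq_one_iff _).2 (Subgroup.mem_map.2 ⟨_, hi, rfl⟩)
    have h1 := hq.le_sylow_of_normal (P.mapSurjective (QuotientGroup.mk'_surjective L))
    rw [Sylow.coe_mapSurjective, Subgroup.map_le_iff_le_comap, Subgroup.comap_map_eq,
      QuotientGroup.ker_mk', sup_comm] at h1
    exact h1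
  refine ⟨L, hLn, ?_, ?_⟩
  · rw [eq_bot_iff]
    intro x hx
    have hxP : x ∈ (P : Subgroup G) := by
      have h1 := hKN x (hLK hx.1) hx.2
      rw [← Subgroup.map_subtype_commutator] at h1
      exact Subgroup.map_subtype_le _ h1
    obtain ⟨k, hk⟩ := IsPGroup.iff_card.1 P.2
    have hd : Disjoint L (P : Subgroup G) := Subgroup.disjoint_of_coprime_natCard (by
      rw [hk]
      exact Nat.Coprime.pow_right _ ((Nat.Prime.coprime_iff_not_dvd Fact.out).2 hLp).symm)
    exact hd.le_bot ⟨hx.1, hxP⟩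
  · refine eq_top_iff.2 (hNK ▸ sup_le le_sup_right (hKLP.trans ?_))
    exact sup_le le_sup_left (hPN.trans le_sup_right)

set_option maxHeartbeats 1000000 in
/-- A normal complement gives equality. -/
theorem nsq_eq_of_complement (P : Sylow p G) (K : Subgroup G) [hK : K.Normal]
    (h1 : K ⊓ Subgroup.normalizer ((P : Subgroup G) : Set G) = ⊥)
    (h2 : K ⊔ Subgroup.normalizer ((P : Subgroup G) : Set G) = ⊤) :
    nsq p ↥(Subgroup.normalizer ((P : Subgroup G) : Set G)) = nsq p G := by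
  classical
  haveI := Fintype.ofFinite G
  set N := Subgroup.normalizer ((P : Subgroup G) : Set G) with hNdef
  haveI := Fintype.ofFinite N
  haveI := Fintype.ofFinite K
  have hPN : (P : Subgroup G) ≤ N := Subgroup.le_normalizer
  have hiN : ¬ p ∣ N.index := fun h => P.not_dvd_index (h.trans (Subgroup.index_dvd_of_le hPN))
  let F : K × N → G := fun q => (q.1 : G) * q.2
  have hF : Function.Bijective F := by
    constructor
    · rintro ⟨k, n⟩ ⟨k', n'⟩ h
      have h' : (k : G) * n = k' * n' := h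
      have hm : (k' : G)⁻¹ * k ∈ K ⊓ N := by
        refine Subgroup.mem_inf.2 ⟨mul_mem (inv_mem k'.2) k.2, ?_⟩
        have : (k' : G)⁻¹ * k = n' * (n : G)⁻¹ := by
          rw [inv_mul_eq_iff_eq_mul, ← mul_assoc, ← h', mul_inv_cancel_right]
        rw [this]
        exact mul_mem n'.2 (inv_mem n.2)
      rw [h1, Subgroup.mem_bot, inv_mul_eq_one] at hm
      have e : k = k' := Subtype.ext hm.symm
      subst e
      exact Prod.ext rfl (Subtype.ext (mul_left_cancel h'))
    · intro g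
      have hg : g ∈ ((K : Set G) * (N : Set G)) := by
        rw [← Subgroup.normal_mul, h2]; trivial
      obtain ⟨k, hk, n, hn, e⟩ := hg
      exact ⟨(⟨k, hk⟩, ⟨n, hn⟩), e⟩
  have hcard : Nat.card K * Nat.card N = Nat.card G := by
    rw [← Nat.card_prod]
    exact Nat.card_eq_of_bijective F hF
  have hKp : ¬ p ∣ Nat.card K := by
    have h3 : Nat.card K = N.index := by
      have h4 := Subgroup.card_mul_index N
      rw [← hcard, mul_comm (Nat.card K)] at h4
      exact (Nat.eq_of_mul_eq_mul_left Nat.card_pos h4).symm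
    rwa [h3]
  have hKC : K ⊓ Subgroup.centralizer ((P : Subgroup G) : Set G) = ⊥ :=
    eq_bot_iff.2 ((inf_le_inf_left K (Subgroup.centralizer_le_normalizer _)).trans h1.le)
  have hval : ∀ (χ : IrrCharacter G), ¬ p ∣ H12.degree (χ : G → ℂ) → ∀ (k : K) (n : N),
      (χ : G → ℂ) (F (k, n)) = (χ : G → ℂ) n := fun χ hχ k n =>
    H12.IsCharacter.mul_left_of_eq_degree (H12.isCharacter_irr χ)
      (H68.PPrimeKernel.kernel_of_free p P K hKp hKC χ hχ k k.2) n
  have hinner : ∀ χ χ' : IrrCharacter G, ¬ p ∣ H12.degree (χ : G → ℂ) →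
      ¬ p ∣ H12.degree (χ' : G → ℂ) →
      classInner (fun x : N => (χ : G → ℂ) x) (fun x : N => (χ' : G → ℂ) x) =
        classInner (χ : G → ℂ) (χ' : G → ℂ) := by
    intro χ χ' hχ hχ'
    rw [H12.classInner_def, H12.classInner_def, ← (Equiv.ofBijective F hF).sum_comp
      (fun g => (χ : G → ℂ) g * conj ((χ' : G → ℂ) g)), Fintype.sum_prod_type]
    simp only [Equiv.ofBijective_apply, hval χ hχ, hval χ' hχ', Finset.sum_const,
      Finset.card_univ, nsmul_eq_mul, ← Nat.card_eq_fintype_card]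
    rw [← hcard, Nat.cast_mul]
    have hK0 : (Nat.card K : ℂ) ≠ 0 := by exact_mod_cast Nat.card_pos.ne'
    have hN0 : (Nat.card N : ℂ) ≠ 0 := by exact_mod_cast Nat.card_pos.ne'
    field_simp
  have hirr : ∀ χ : IrrCharacter G, ¬ p ∣ H12.degree (χ : G → ℂ) →
      IsIrrCharacter N (fun x : N => (χ : G → ℂ) x) := fun χ hχ =>
    H12.isIrrCharacter_of_classInner_self_eq_one (H12.IsCharacter.res (H12.isCharacter_irr χ) N)
      (by rw [hinner χ χ hχ hχ, H12.classInner_irr_self])
  rw [nsq_eq, nsq_eq]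
  symm
  refine Finset.sum_bij (fun χ hχ => (⟨_, hirr χ (Finset.mem_filter.1 hχ).2⟩ : IrrCharacter N))
    ?_ ?_ ?_ ?_
  · intro χ hχ
    refine Finset.mem_filter.2 ⟨Finset.mem_univ _, ?_⟩
    simpa [H12.degree] using (Finset.mem_filter.1 hχ).2
  · intro χ hχ χ' hχ' h
    by_contra hne
    have h3 := hinner χ χ' (Finset.mem_filter.1 hχ).2 (Finset.mem_filter.1 hχ').2
    rw [H12.classInner_irr_ne hne] at h3
    have h4 := congrArg Subtype.val h
    simp only at h4
    rw [← h4] at h3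
    rw [show classInner (fun x : N => (χ : G → ℂ) x) (fun x : N => (χ : G → ℂ) x) = 1 from
      H12.classInner_irr_self ⟨_, hirr χ (Finset.mem_filter.1 hχ).2⟩] at h3
    exact one_ne_zero h3
  · intro ψ hψ
    obtain ⟨χ, hχ, hne⟩ := H68.PPrimeKernel.exists_pPrime_constituent p N ψ hiN
      (Finset.mem_filter.1 hψ).2
    refine ⟨χ, Finset.mem_filter.2 ⟨Finset.mem_univ _, hχ⟩, ?_⟩
    by_contra hne'
    exact hne (H12.classInner_irr_ne hne')
  · intro χ _
    simp [H12.degree]

end H10.SquareSum
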