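import Cfsg.Agent.H10.StableTransport
import Cfsg.Agent.H79.GlaubermanThompson
import Cfsg.Agent.S0626

/-!
Normal p-complement criterion through the normalizer of W(S), p odd. The induction follows
`Cfsg.Agent.H79.GlaubermanThompson`, with W in place of ZJ.
-/

set_option autoImplicit false
set_option linter.style.haveILetI false

namespace H10

open Subgroup H79
open scoped Pointwise commutatorElement

universe u

variable {G : Type u} [Group G] [Finite G] {p : ℕ} [Fact p.Prime]

/-- A group that is not p-nilpotent, all of whose relevant proper local subgroups are covered by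
induction, has a nontrivial normal p-subgroup. -/
theorem pCore_ne_bot_of_stable_induction (P : Sylow p G) (hP1 : (P : Subgroup G) ≠ ⊥)
    (h : Cfsg.HasNormalPComplement p ↥(normalizer (stableClosureOf p (P : Subgroup G) : Set G)))
    (hG : ¬ Cfsg.HasNormalPComplement p G)
    (ih : ∀ N : Subgroup G, N ≠ ⊤ → ∀ (S : Sylow p N),
      Cfsg.HasNormalPComplement p ↥(normalizer (stableClosureOf p (S : Subgroup N) : Set N)) →
      Cfsg.HasNormalPComplement p N) :
    Cfsg.pCore p G ≠ ⊥ := by
  classical
  intro hQ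
  set bad := {T : Subgroup G | T ≤ (P : Subgroup G) ∧ T ≠ ⊥ ∧
    ¬ Cfsg.HasNormalPComplement p ↥(normalizer (T : Set G))} with hbad
  have hne : bad.Nonempty := by
    by_contra hemp
    apply hG
    refine H5.hasNormalPComplement_of_frobenius P fun T hT g hg hgo => ?_
    by_cases hT1 : T = ⊥
    · refine mem_centralizer_iff.mpr fun t ht => ?_
      rw [hT1, SetLike.mem_coe, mem_bot] at ht
      simp [ht]
    refine centralizes_of_pnil ?_ (P.isPGroup'.to_le hT) le_normalizer hg hg hgo
    by_contra hc
    exact hemp ⟨T, hT, hT1, hc⟩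
  obtain ⟨T₀, ⟨hT₀P, hT₀1, hT₀n⟩, hmax⟩ := Set.exists_max_image bad
    (fun T => Nat.card ↥((P : Subgroup G) ⊓ normalizer (T : Set G))) (Set.toFinite _) hne
  obtain ⟨c, hc, hfull⟩ := exists_full_conj P hT₀P
  set T := T₀.map (MulAut.conj c).toMonoidHom with hTdef
  have hTP : T ≤ (P : Subgroup G) := by
    rintro _ ⟨u, hu, rfl⟩
    exact hc u ⟨hT₀P hu, le_normalizer hu⟩
  have hT1 : T ≠ ⊥ := fun h0 =>
    hT₀1 ((map_eq_bot_iff_of_injective _ (MulAut.conj c).injective).mp h0)
  have hTn : ¬ Cfsg.HasNormalPComplement p ↥(normalizer (T : Set G)) := fun hh =>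
    hT₀n (pnil_normalizer_of_map _ (MulAut.conj c).injective T₀ hh)
  set N := normalizer (T : Set G) with hN
  set R := (P : Subgroup G) ⊓ N with hR
  have hmax' : ∀ U ∈ bad, Nat.card ↥((P : Subgroup G) ⊓ normalizer (U : Set G)) ≤ Nat.card R := by
    intro U hU
    refine (hmax U hU).trans ((card_map_of_injective (f := (MulAut.conj c).toMonoidHom) (MulAut.conj c).injective).symm.trans_le ?_)
    exact hfull _ (P.isPGroup'.to_inf_left.map _) (conj_map_le_normalizer c inf_le_right)
  have hNtop : N ≠ ⊤ := by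
    intro htop
    apply hT1
    haveI : T.Normal := normalizer_eq_top_iff.mp htop
    exact le_bot_iff.mp (hQ ▸ H1.le_pCore (P.isPGroup'.to_le hTP))
  have hSp : IsPGroup p (R.subgroupOf N) :=
    (P.isPGroup'.to_inf_left).comap_of_injective N.subtype N.subtype_injective
  obtain ⟨S, hS⟩ := hSp.exists_le_sylow
  have hSeq : (S : Subgroup N) = R.subgroupOf N := by
    refine (eq_of_le_of_card_ge hS ?_).symm
    rw [Nat.card_congr (subgroupOfEquivOfLe (inf_le_right : (P : Subgroup G) ⊓ N ≤ N)).toEquiv,
      ← card_map_of_injective N.subtype_injective]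
    exact hfull _ (S.isPGroup'.map _) (map_subtype_le _)
  have hR1 : R ≠ ⊥ := fun h0 => inf_normalizer_ne_bot P le_rfl le_normalizer hP1 hTP
    (by rw [inf_of_le_right (inf_le_left : (P : Subgroup G) ⊓ N ≤ _)]; exact h0)
  set W := stableClosureOf p R with hW
  have hmap : (stableClosureOf p (S : Subgroup N)).map N.subtype = W := by
    rw [hSeq, map_stableClosureOf_subgroupOf inf_le_right]
  have hWn : ¬ Cfsg.HasNormalPComplement p ↥(normalizer (W : Set G)) := fun hh =>
    hTn (ih N hNtop S (pnil_normalizer_of_map _ N.subtype_injective _ (hmap.symm ▸ hh)))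
  have hWbad : W ∈ bad :=
    ⟨(stableClosureOf_le _).trans inf_le_left,
      stableClosureOf_ne_bot P.isPGroup'.to_inf_left hR1, hWn⟩
  by_cases hRP : R = (P : Subgroup G)
  · apply hWn
    rw [hW, hRP]
    exact h
  have hle : (P : Subgroup G) ⊓ normalizer (R : Set G) ≤ (P : Subgroup G) ⊓ normalizer (W : Set G) :=
    inf_le_inf_left _ (normalizer_le_normalizer_stableClosureOf R)
  have hlt := lt_of_lt_of_le (lt_inf_normalizer_of_lt P.isPGroup' (lt_of_le_of_ne inf_le_left hRP)) hle
  have := Set.Finite.card_lt_card (Set.toFinite _) (SetLike.coe_ssubset_coe.mpr hlt)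
  exact absurd (hmax' W hWbad) (not_le.mpr this)

/-- The criterion. -/
theorem hasNormalPComplement_of_stableClosure (hp : p ≠ 2) :
    ∀ (n : ℕ) (G : Type u) [Group G] [Finite G], Nat.card G ≤ n →
      ∀ (P : Sylow p G),
      Cfsg.HasNormalPComplement p ↥(normalizer (stableClosureOf p (P : Subgroup G) : Set G)) →
      Cfsg.HasNormalPComplement p G := by
  classical
  intro n
  induction n with
  | zero => intro G _ _ hn; exact absurd (Nat.card_pos (α := G)) (by omega)
  | succ n ih =>
  intro G _ _ hn P h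
  have htop : normalizer (stableClosureOf p (P : Subgroup G) : Set G) = ⊤ →
      Cfsg.HasNormalPComplement p G := fun e => pnil_of_top (e ▸ h)
  by_cases hP1 : (P : Subgroup G) = ⊥
  · refine htop (top_le_iff.mp (le_trans ?_ (normalizer_le_normalizer_stableClosureOf _)))
    rw [hP1, normalizer_eq_top]
  by_contra hG
  have hsmall : ∀ N : Subgroup G, N ≠ ⊤ → Nat.card N ≤ n := by
    intro N hN
    have := lt_of_le_of_ne (card_le_card_group N) fun e => hN (eq_top_of_card_eq N e)
    omega
  have hQ1 := pCore_ne_bot_of_stable_induction P hP1 h hG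
    (fun N hN S hh => ih N (hsmall N hN) S hh)
  have hlt : ∀ K : Subgroup G, K ≠ ⊥ → K.Normal → Nat.card (G ⧸ K) ≤ n := by
    intro K hK _
    have h1 := card_eq_card_quotient_mul_card_subgroup K
    have h2 : 1 < Nat.card K := K.one_lt_card_iff_ne_bot.mpr hK
    have h3 : 0 < Nat.card (G ⧸ K) := Nat.card_pos
    nlinarith
  -- subgroups containing the Sylow subgroup
  have hover : ∀ M : Subgroup G, M ≠ ⊤ → (P : Subgroup G) ≤ M → Cfsg.HasNormalPComplement p M := by
    intro M hM hPM
    refine ih M (hsmall M hM) (P.subtype hPM) ?_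
    refine pnil_normalizer_of_map _ M.subtype_injective _ ?_
    rw [Sylow.coe_subtype, map_stableClosureOf_subgroupOf hPM]
    exact h
  -- no normal p'-subgroup
  have hK1 : Cfsg.pPrimeCore p G = ⊥ := by
    by_contra hK1
    set K := Cfsg.pPrimeCore p G with hKdef
    haveI : K.Normal := H1.pPrimeCore_normal' p G
    have hK : (Nat.card K).Coprime p := H1.card_pPrimeCore_coprime p G
    set π := QuotientGroup.mk' K with hπ
    have hπs : Function.Surjective π := QuotientGroup.mk'_surjective K
    have hinj : ∀ x ∈ (P : Subgroup G), π x = 1 → x = 1 := fun x hx hx1 =>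
      inf_eq_one_of_coprime hK P.isPGroup' ((QuotientGroup.eq_one_iff x).mp hx1) hx
    have hq : Cfsg.HasNormalPComplement p (G ⧸ K) := by
      refine ih _ (hlt K hK1 inferInstance) (P.mapSurjective hπs) ?_
      rw [Sylow.coe_mapSurjective, ← map_stableClosureOf π hinj,
        ← H11.map_normalizer_eq π hπs (by rw [QuotientGroup.ker_mk']; exact hK) _
        (P.isPGroup'.to_le (stableClosureOf_le _))]
      exact H5.hasNormalPComplement_of_surjective
        (π.subgroupMap (normalizer (stableClosureOf p (P : Subgroup G) : Set G)))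
        (π.subgroupMap_surjective _) h
    apply hG
    rw [H5.hasNormalPComplement_iff_inf_eq_bot P, eq_bot_iff]
    rintro x ⟨hx, hxP⟩
    refine mem_bot.mpr (inf_eq_one_of_coprime hK P.isPGroup' ?_ hxP)
    have h1 : π x ∈ Cfsg.pResidual p (G ⧸ K) ⊓ (P.mapSurjective hπs : Subgroup (G ⧸ K)) :=
      ⟨H5.pResidual_map_le π ⟨x, hx, rfl⟩, by rw [Sylow.coe_mapSurjective]; exact ⟨x, hxP, rfl⟩⟩
    rw [(H5.hasNormalPComplement_iff_inf_eq_bot _).mp hq, mem_bot] at h1
    exact (QuotientGroup.eq_one_iff x).mp h1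
  set Q := Cfsg.pCore p G with hQdef
  haveI : Q.Normal := H1.pCore_normal' p G
  have hQp : IsPGroup p Q := H1.isPGroup_pCore p G
  have hQP : Q ≤ (P : Subgroup G) := H1.pCore_le_sylow P
  set π := QuotientGroup.mk' Q with hπ
  have hπs : Function.Surjective π := QuotientGroup.mk'_surjective Q
  set P' := P.mapSurjective hπs with hP'
  have hP'coe : (P' : Subgroup (G ⧸ Q)) = (P : Subgroup G).map π := Sylow.coe_mapSurjective _ _
  have hq : Cfsg.HasNormalPComplement p (G ⧸ Q) := by
    by_cases hP'1 : (P' : Subgroup (G ⧸ Q)) = ⊥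
    · have hPQ : (P : Subgroup G) ≤ Q := by
        rw [hP'coe, Subgroup.map_eq_bot_iff, QuotientGroup.ker_mk'] at hP'1; exact hP'1
      refine absurd (htop (top_le_iff.mp (le_trans ?_ (normalizer_le_normalizer_stableClosureOf _)))) hG
      rw [le_antisymm hPQ hQP, normalizer_eq_top]
    set W' := stableClosureOf p (P' : Subgroup (G ⧸ Q)) with hW'
    set M := (normalizer (W' : Set (G ⧸ Q))).comap π with hM
    have hPM : (P : Subgroup G) ≤ M := by
      rw [hM, ← map_le_iff_le_comap, ← hP'coe]
      exact le_normalizer.trans (normalizer_le_normalizer_stableClosureOf _)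
    have hW'p : IsPGroup p W' := P'.isPGroup'.to_le (stableClosureOf_le _)
    have hMtop : M ≠ ⊤ := by
      intro e
      haveI : W'.Normal := normalizer_eq_top_iff.mp (by
        rw [← map_comap_eq_self_of_surjective hπs (normalizer (W' : Set (G ⧸ Q))), ← hM, e,
          map_top_of_surjective π hπs])
      haveI : (W'.comap π).Normal := Subgroup.Normal.comap inferInstance π
      have hle : W'.comap π ≤ Q := H1.le_pCore
        (hW'p.comap_of_ker_isPGroup π (by rw [QuotientGroup.ker_mk']; exact hQp))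
      refine stableClosureOf_ne_bot P'.isPGroup' hP'1 (eq_bot_iff.mpr fun y hy => ?_)
      obtain ⟨x, rfl⟩ := hπs y
      exact mem_bot.mpr ((QuotientGroup.eq_one_iff x).mpr (hle hy))
    refine ih _ (hlt Q hQ1 inferInstance) P' ?_
    rw [← map_comap_eq_self_of_surjective hπs (normalizer (W' : Set (G ⧸ Q))), ← hM]
    exact H5.hasNormalPComplement_of_surjective (π.subgroupMap M) (π.subgroupMap_surjective _)
      (hover M hMtop hPM)
  have hc : centralizer (Q : Set G) ≤ Q := by
    refine H10.centralizer_pCore_le (H10.isPSolvable_of_normal Q ?_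
      (H33.isPSolvable_of_hasNormalPComplement hq)) hK1
    haveI := isSolvable_pGroup hQp
    exact H10.isPSolvable_of_isSolvable
  set K' := Cfsg.pResidual p (G ⧸ Q) with hK'
  have hK'c : (Nat.card K').Coprime p := by
    rw [Nat.coprime_comm, (Fact.out : p.Prime).coprime_iff_not_dvd]
    exact H5.hasNormalPComplement_iff_not_dvd.mp hq
  have hmin : ∀ L : Subgroup (G ⧸ Q), L ≤ K' →
      (P' : Subgroup (G ⧸ Q)) ≤ normalizer (L : Set (G ⧸ Q)) → L ≠ K' → L = ⊥ := by
    intro L hL hLN hLne
    set M := (L ⊔ (P' : Subgroup (G ⧸ Q))).comap π with hM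
    have hPM : (P : Subgroup G) ≤ M := by
      rw [hM, ← map_le_iff_le_comap, ← hP'coe]
      exact le_sup_right
    have hMtop : M ≠ ⊤ := by
      intro e
      refine hLne (le_antisymm hL fun k hk => ?_)
      have hk' : k ∈ L ⊔ (P' : Subgroup (G ⧸ Q)) := by
        obtain ⟨g, rfl⟩ := hπs k
        exact (e ▸ mem_top g : g ∈ M)
      obtain ⟨l, hl, s, hs, rfl⟩ := H1.exists_mul_of_mem_sup hLN hk'
      have hs1 : s = 1 := inf_eq_one_of_coprime hK'c P'.isPGroup'
        ((mul_mem_cancel_left (hL hl)).mp hk) hs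
      rwa [hs1, mul_one]
    have hMn := hover M hMtop hPM
    have hMp : IsPGroup p M := H11.isPGroup_of_forall_coprime fun v hv hvo => by
      have hvQ : v ∈ Q := hc (centralizes_of_pnil hMn hQp (hQP.trans hPM) hv
        (normalizer_eq_top Q ▸ mem_top v) hvo)
      exact H11.eq_one_of_mem_pGroup_coprime hQp hvQ hvo
    have hLp : IsPGroup p L := (hMp.map π).to_le (by
      rw [hM, map_comap_eq_self_of_surjective hπs]; exact le_sup_left)
    exact eq_bot_iff.mpr fun x hx => mem_bot.mpr (inf_eq_one_of_coprime hK'c hLp (hL hx) hx)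
  have hK'ab : ⁅K', K'⁆ = ⊥ := by
    by_cases hK'1 : K' = ⊥
    · rw [hK'1]; exact eq_bot_iff.mpr (commutator_le_self ⊥)
    set q := (Nat.card K').minFac with hqdef
    have hcard : Nat.card K' ≠ 1 := fun e => hK'1 (eq_bot_of_card_eq _ e)
    haveI : Fact q.Prime := ⟨Nat.minFac_prime hcard⟩
    obtain ⟨a, ha⟩ := IsPGroup.iff_card.mp P'.isPGroup'
    obtain ⟨R, hR⟩ := H1.exists_invariant_sylow (A := (P' : Subgroup (G ⧸ Q))) (K := K')
      (le_normalizer_of_conj_mem fun g _ x hx => Subgroup.Normal.conj_mem inferInstance x hx g)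
      (ha ▸ hK'c.symm.pow_left a) (Or.inl (isSolvable_pGroup P'.isPGroup')) q
    have hR' : (R : Subgroup K').map K'.subtype = K' := by
      by_contra hne
      have h1 := hmin _ (map_subtype_le _) hR hne
      rw [map_eq_bot_iff_of_injective _ K'.subtype_injective] at h1
      refine R.not_dvd_index ?_
      rw [h1, index_bot]
      exact Nat.minFac_dvd _
    have hKq : IsPGroup q K' := hR' ▸ R.isPGroup'.map _
    have hnil : Group.IsNilpotent K' := hKq.isNilpotent
    haveI : Nontrivial K' := (nontrivial_iff_ne_bot K').mpr hK'1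
    have hlt : commutator K' < ⊤ := Group.IsSolvable.commutator_lt_top_of_nontrivial (G := K')
    refine hmin _ (commutator_le_self K') ?_ ?_
    · rw [normalizer_eq_top]; exact le_top
    · intro e
      rw [← map_subtype_commutator K'] at e
      refine hlt.ne (eq_top_iff.mpr fun x _ => ?_)
      obtain ⟨y, hy, hyx⟩ := e.ge x.2
      exact Subtype.ext hyx ▸ hy
  have hab : ∀ T : Sylow 2 G, IsMulCommutative T := by
    intro T
    haveI : Fact (Nat.Prime 2) := ⟨Nat.prime_two⟩
    have h2p : Nat.Coprime p 2 :=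
      (Nat.coprime_primes (Fact.out : p.Prime) Nat.prime_two).mpr hp
    have hTK : ∀ t ∈ (T : Subgroup G), π t ∈ K' := by
      intro t ht
      obtain ⟨i, hi⟩ := T.isPGroup' ⟨t, ht⟩
      obtain ⟨j, hj⟩ := H5.isPGroup_quotient_pResidual (G := G ⧸ Q) (p := p) (QuotientGroup.mk (π t))
      rw [← QuotientGroup.eq_one_iff, ← orderOf_eq_one_iff]
      refine Nat.eq_one_of_dvd_coprimes (h2p.symm.pow i j)
        (orderOf_dvd_of_pow_eq_one ?_) (orderOf_dvd_of_pow_eq_one hj)
      rw [← QuotientGroup.mk_pow, ← map_pow, show t ^ 2 ^ i = 1 from congrArg Subtype.val hi,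
        map_one, QuotientGroup.mk_one]
    refine H11.isMulCommutative_of_commute fun x hx y hy => ?_
    have h1 : π ⁅x, y⁆ = 1 := by
      rw [map_commutatorElement, ← mem_bot, ← hK'ab]
      exact commutator_mem_commutator (hTK x hx) (hTK y hy)
    have h2 : ⁅x, y⁆ ∈ (T : Subgroup G) := by
      rw [commutatorElement_def]
      exact mul_mem (mul_mem (mul_mem hx hy) (inv_mem hx)) (inv_mem hy)
    obtain ⟨i, hi⟩ := T.isPGroup' ⟨_, h2⟩
    obtain ⟨j, hj⟩ := hQp ⟨_, (QuotientGroup.eq_one_iff _).mp h1⟩
    exact commutatorElement_eq_one_iff_mul_comm.mp (orderOf_eq_one_iff.mp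
      (Nat.eq_one_of_dvd_coprimes (h2p.symm.pow i j)
        (orderOf_dvd_of_pow_eq_one (congrArg Subtype.val hi))
        (orderOf_dvd_of_pow_eq_one (congrArg Subtype.val hj))))
  haveI : (stableClosureOf p (P : Subgroup G)).Normal :=
    stableClosureOf_normal (Cfsg.Agent.S0626.result hp hab) hc P
  exact hG (htop (normalizer_eq_top (stableClosureOf p (P : Subgroup G))))

end H10
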