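import Cfsg.Agent.H10.FFOffenders
import Cfsg.Agent.H3.SubnormalJoin
import Cfsg.Agent.H32.Subnormal

/-!
Two subnormal subgroups with incomparable irreducible commutator modules (Kurzweil–Stellmacher 9.3.5).
-/

set_option autoImplicit false
set_option linter.style.haveILetI false

open Cfsg
open scoped commutatorElement

namespace H10

variable {G : Type*} [Group G] [Finite G] {p : ℕ} [Fact p.Prime] {V : Subgroup G}

omit [Finite G] [Fact p.Prime] in
/-- A subgroup stabilising `1 ≤ U ≤ V` acts with exponent dividing `p`. -/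
theorem pow_comm_of_stab (hV : IsElementaryAbelian p V) {U X : Subgroup G} (hU : U ≤ V)
    (h1 : ⁅V, X⁆ ≤ U) (h2 : ⁅U, X⁆ = ⊥) {x : G} (hx : x ∈ X) {v : G} (hv : v ∈ V) :
    x ^ p * v = v * x ^ p := by
  set u := ⁅x, v⁆ with hu
  have huU : u ∈ U := by
    refine h1 ?_
    rw [Subgroup.commutator_comm]
    exact Subgroup.commutator_mem_commutator hx hv
  have hxu : x * u * x⁻¹ = u := mul_inv_eq_iff_eq_mul.mpr
    (Subgroup.mem_centralizer_iff.mp (Subgroup.commutator_eq_bot_iff_le_centralizer.mp h2 huU) x hx)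
  have key : ∀ n : ℕ, x ^ n * v * (x ^ n)⁻¹ = u ^ n * v := by
    intro n
    induction n with
    | zero => simp
    | succ n ih =>
      calc x ^ (n + 1) * v * (x ^ (n + 1))⁻¹ = x * (x ^ n * v * (x ^ n)⁻¹) * x⁻¹ := by
            rw [pow_succ']; group
        _ = (x * u * x⁻¹) ^ n * (x * v * x⁻¹) := by rw [ih, conj_pow]; group
        _ = u ^ n * (u * v) := by
            rw [hxu, show x * v * x⁻¹ = u * v by rw [hu, commutatorElement_def]; group]
        _ = u ^ (n + 1) * v := by rw [← mul_assoc, pow_succ]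
  have h3 := key p
  rw [hV.2 u (hU huU), one_mul] at h3
  exact mul_inv_eq_iff_eq_mul.mp h3

/-- The hypotheses of the lemma. -/
structure SubPair (p : ℕ) (V E E₁ E₂ : Subgroup G) : Prop where
  hV : IsElementaryAbelian p V
  hEV : E ≤ Subgroup.normalizer (V : Set G)
  hf : E ⊓ Subgroup.centralizer (V : Set G) = ⊥
  hgen : E = E₁ ⊔ E₂
  hs₁ : (E₁.subgroupOf E).IsSubnormal
  hs₂ : (E₂.subgroupOf E).IsSubnormal
  hOp : pCore p ↥E = ⊥
  hirr₁ : ∀ U : Subgroup G, U ≤ ⁅V, E₁⁆ → E₁ ≤ Subgroup.normalizer (U : Set G) →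
    U = ⊥ ∨ U = ⁅V, E₁⁆
  hirr₂ : ∀ U : Subgroup G, U ≤ ⁅V, E₂⁆ → E₂ ≤ Subgroup.normalizer (U : Set G) →
    U = ⊥ ∨ U = ⁅V, E₂⁆
  h12 : ¬ ⁅V, E₁⁆ ≤ ⁅V, E₂⁆
  h21 : ¬ ⁅V, E₂⁆ ≤ ⁅V, E₁⁆
  hc₁ : 2 < Nat.card E₁
  hc₂ : 2 < Nat.card E₂

namespace SubPair

variable {E E₁ E₂ : Subgroup G} (h : SubPair p V E E₁ E₂)
include h

omit [Finite G] [Fact p.Prime] in
theorem symm : SubPair p V E E₂ E₁ where
  hV := h.hV
  hEV := h.hEV
  hf := h.hf
  hgen := h.hgen.trans (sup_comm _ _)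
  hs₁ := h.hs₂
  hs₂ := h.hs₁
  hOp := h.hOp
  hirr₁ := h.hirr₂
  hirr₂ := h.hirr₁
  h12 := h.h21
  h21 := h.h12
  hc₁ := h.hc₂
  hc₂ := h.hc₁

omit [Finite G] [Fact p.Prime] in
theorem le₁ : E₁ ≤ E := le_sup_left.trans h.hgen.ge

omit [Finite G] [Fact p.Prime] in
theorem le₂ : E₂ ≤ E := le_sup_right.trans h.hgen.ge

omit [Finite G] [Fact p.Prime] in
theorem comm_le (X : Subgroup G) (hX : X ≤ E) : ⁅V, X⁆ ≤ V :=
  Subgroup.commutator_le.mpr fun _ hv _ hx => comm_mem_of_norm (hX.trans h.hEV) hv hx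

omit [Finite G] [Fact p.Prime] in
theorem eq_one {x : G} (hx : x ∈ E) (hc : ∀ v ∈ V, x * v = v * x) : x = 1 := by
  have : x ∈ E ⊓ Subgroup.centralizer (V : Set G) := ⟨hx, fun v hv => (hc v hv).symm⟩
  rwa [h.hf, Subgroup.mem_bot] at this

omit [Fact p.Prime] in
/-- Subnormal `p`-subgroups are trivial. -/
theorem eq_bot_of_isPGroup {X : Subgroup G} (hX : X ≤ E) (hs : (X.subgroupOf E).IsSubnormal)
    (hp : IsPGroup p X) : X = ⊥ := by
  have h1 := H32.isPGroup_le_pCore_of_subnormal hs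
    (hp.comap_of_injective E.subtype E.subtype_injective)
  rw [h.hOp, le_bot_iff, Subgroup.subgroupOf_eq_bot] at h1
  exact disjoint_self.mp (h1.mono_right hX)

omit [Fact p.Prime] in
theorem eq_bot_of_stab {X U : Subgroup G} (hX : X ≤ E) (hs : (X.subgroupOf E).IsSubnormal)
    (hU : U ≤ V) (h1 : ⁅V, X⁆ ≤ U) (h2 : ⁅U, X⁆ = ⊥) : X = ⊥ := by
  refine h.eq_bot_of_isPGroup hX hs fun x => ⟨1, Subtype.ext ?_⟩
  rw [pow_one, Subgroup.coe_pow, Subgroup.coe_one]
  exact h.eq_one (pow_mem (hX x.2) p) fun v hv => pow_comm_of_stab h.hV hU h1 h2 x.2 hv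

omit [Fact p.Prime] in
theorem self_commutator : ⁅⁅V, E₁⁆, E₁⁆ = ⁅V, E₁⁆ := by
  have hn : E₁ ≤ Subgroup.normalizer ((⁅V, E₁⁆ : Subgroup G) : Set G) := H1.right_le_normalizer_commutator
  refine (h.hirr₁ _ (H1.commutator_le_left_of_le_normalizer hn)
    H1.right_le_normalizer_commutator).resolve_left fun h0 => h.h12 ?_
  rw [h.eq_bot_of_stab h.le₁ h.hs₁ (h.comm_le _ h.le₁) le_rfl h0, Subgroup.commutator_bot_right]
  exact bot_le

omit [Fact p.Prime] in
theorem fixed_eq_one {v : G} (hv : v ∈ ⁅V, E₁⁆) (hfix : ∀ e ∈ E₁, e * v = v * e) : v = 1 := by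
  have hn : E₁ ≤ Subgroup.normalizer ((⁅V, E₁⁆ : Subgroup G) : Set G) := H1.right_le_normalizer_commutator
  rcases h.hirr₁ (⁅V, E₁⁆ ⊓ Subgroup.centralizer (E₁ : Set G)) inf_le_left
    (H8.le_normalizer_inf hn (H8.le_normalizer_centralizer_of_le_normalizer Subgroup.le_normalizer))
    with h0 | h0
  · exact Subgroup.mem_bot.mp (h0 ▸ Subgroup.mem_inf.mpr
      ⟨hv, Subgroup.mem_centralizer_iff.mpr fun e he => hfix e he⟩)
  · have h1 : ⁅⁅V, E₁⁆, E₁⁆ = ⊥ :=
      Subgroup.commutator_eq_bot_iff_le_centralizer.mpr (h0.ge.trans inf_le_right)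
    rw [h.self_commutator] at h1
    exact Subgroup.mem_bot.mp (h1 ▸ hv)

omit [Fact p.Prime] in
theorem ne_bot₁ : ⁅V, E₁⁆ ≠ ⊥ := fun e => h.h12 (by rw [e]; exact bot_le)

/-- Both modules invariant: the conclusion. -/
theorem of_invariant (hn₂ : E₂ ≤ Subgroup.normalizer ((⁅V, E₁⁆ : Subgroup G) : Set G))
    (hn₁ : E₁ ≤ Subgroup.normalizer ((⁅V, E₂⁆ : Subgroup G) : Set G)) :
    ⁅E₁, E₂⁆ = ⊥ ∧ E₁ ⊓ E₂ = ⊥ ∧ ⁅V, E₁⁆ ⊓ ⁅V, E₂⁆ = ⊥ ∧ ⁅V, E⁆ = ⁅V, E₁⁆ ⊔ ⁅V, E₂⁆ := by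
  set W₁ := ⁅V, E₁⁆ with hW₁
  set W₂ := ⁅V, E₂⁆ with hW₂
  have hn11 : E₁ ≤ Subgroup.normalizer (W₁ : Set G) := H1.right_le_normalizer_commutator
  have hn22 : E₂ ≤ Subgroup.normalizer (W₂ : Set G) := H1.right_le_normalizer_commutator
  have hinf : W₁ ⊓ W₂ = ⊥ :=
    (h.hirr₁ _ inf_le_left (H8.le_normalizer_inf hn11 hn₁)).resolve_right fun e =>
      h.h12 (e.ge.trans inf_le_right)
  have h12 : ⁅W₁, E₂⁆ = ⊥ := le_bot_iff.mp (hinf ▸ le_inf
    (H1.commutator_le_left_of_le_normalizer hn₂) (Subgroup.commutator_mono (h.comm_le _ h.le₁) le_rfl))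
  have h21 : ⁅W₂, E₁⁆ = ⊥ := le_bot_iff.mp (hinf ▸ le_inf
    (Subgroup.commutator_mono (h.comm_le _ h.le₂) le_rfl) (H1.commutator_le_left_of_le_normalizer hn₁))
  have hc : ∀ x ∈ E, x ∈ Subgroup.centralizer (V : Set G) → x = 1 := fun x hx hxc =>
    h.eq_one hx fun v hv => (Subgroup.mem_centralizer_iff.mp hxc v hv).symm
  refine ⟨?_, ?_, hinf, ?_⟩
  · have h3 : ⁅⁅E₁, E₂⁆, V⁆ = ⊥ := by
      refine Subgroup.commutator_commutator_eq_bot_of_rotate ?_ ?_
      · rw [Subgroup.commutator_comm E₂ V]; exact h21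
      · exact h12
    rw [Subgroup.commutator_eq_bot_iff_le_centralizer] at h3
    rw [eq_bot_iff]
    intro x hx
    exact Subgroup.mem_bot.mpr (hc x ((Subgroup.commutator_mono h.le₁ h.le₂).trans
      (Subgroup.commutator_le_self E) hx) (h3 hx))
  · rw [eq_bot_iff]
    intro x hx
    refine Subgroup.mem_bot.mpr (h.eq_one (h.le₁ hx.1) fun v hv => ?_)
    have h4 : ⁅v, x⁆ ∈ W₁ ⊓ W₂ := Subgroup.mem_inf.mpr
      ⟨Subgroup.commutator_mem_commutator hv hx.1, Subgroup.commutator_mem_commutator hv hx.2⟩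
    rw [hinf, Subgroup.mem_bot, commutatorElement_eq_one_iff_mul_comm] at h4
    exact h4.symm
  · refine le_antisymm ?_ (sup_le (Subgroup.commutator_mono le_rfl h.le₁)
      (Subgroup.commutator_mono le_rfl h.le₂))
    let T : Subgroup G :=
      { carrier := {y | y ∈ E ∧ (∀ v ∈ V, ⁅v, y⁆ ∈ W₁ ⊔ W₂) ∧
          y ∈ Subgroup.normalizer ((W₁ ⊔ W₂ : Subgroup G) : Set G)}
        one_mem' := ⟨one_mem _, fun v _ => by rw [commutatorElement_one_right]; exact one_mem _,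
          one_mem _⟩
        mul_mem' := by
          rintro x y ⟨hxE, hx, hxn⟩ ⟨hyE, hy, hyn⟩
          refine ⟨mul_mem hxE hyE, fun v hv => ?_, mul_mem hxn hyn⟩
          have e : ⁅v, x * y⁆ = ⁅v, x⁆ * (x * ⁅v, y⁆ * x⁻¹) := by
            simp only [commutatorElement_def]; group
          rw [e]
          exact mul_mem (hx v hv) ((Subgroup.mem_normalizer_iff.mp hxn _).mp (hy v hv))
        inv_mem' := by
          rintro x ⟨hxE, hx, hxn⟩
          refine ⟨inv_mem hxE, fun v hv => ?_, inv_mem hxn⟩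
          have e : ⁅v, x⁻¹⁆ = x⁻¹ * ⁅v, x⁆⁻¹ * x⁻¹⁻¹ := by
            simp only [commutatorElement_def]; group
          rw [e]
          exact (Subgroup.mem_normalizer_iff.mp (inv_mem hxn) _).mp (inv_mem (hx v hv)) }
    have hle : E ≤ T := by
      refine h.hgen.le.trans (sup_le (fun y hy => ⟨h.le₁ hy, fun v hv => Subgroup.mem_sup_left
          (Subgroup.commutator_mem_commutator hv hy), ?_⟩) fun y hy => ⟨h.le₂ hy, fun v hv =>
          Subgroup.mem_sup_right (Subgroup.commutator_mem_commutator hv hy), ?_⟩)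
      · exact H3.le_normalizer_sup hn11 hn₁ hy
      · exact H3.le_normalizer_sup hn₂ hn22 hy
    rw [Subgroup.commutator_le]
    exact fun v hv y hy => (hle hy).2.1 v hv

end SubPair

/-- The lemma. -/
theorem SubPair.conclusion : ∀ (n : ℕ) (E E₁ E₂ : Subgroup G), Nat.card E ≤ n →
    SubPair p V E E₁ E₂ →
    ⁅E₁, E₂⁆ = ⊥ ∧ E₁ ⊓ E₂ = ⊥ ∧ ⁅V, E₁⁆ ⊓ ⁅V, E₂⁆ = ⊥ ∧ ⁅V, E⁆ = ⁅V, E₁⁆ ⊔ ⁅V, E₂⁆ := by
  intro n
  induction n with
  | zero => intro E _ _ hn; exact absurd (Nat.card_pos (α := E)) (by omega)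
  | succ n ih =>
  intro E E₁ E₂ hn h
  -- conjugates moving the module
  have conjpair : ∀ (A B : Subgroup G), SubPair p V E A B → ∀ g ∈ B,
      g ∉ Subgroup.normalizer ((⁅V, A⁆ : Subgroup G) : Set G) →
      ⁅V, A⁆ ⊓ (⁅V, A⁆).map (MulAut.conj g).toMonoidHom = ⊥ ∧
        (∀ e ∈ A, ∀ w ∈ ⁅V, A⁆, e * (g * w * g⁻¹) = g * w * g⁻¹ * e) := by
    intro A B hP g hg hgn
    have hgE := hP.le₂ hg
    set φ := (MulAut.conj g).toMonoidHom with hφ
    have hinj : Function.Injective φ := (MulAut.conj g).injective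
    set A' := A.map φ with hA'
    have hVg : V.map φ = V := Subgroup.mem_normalizer_iff_map_conj_eq.mp (hP.hEV hgE)
    have hW' : ⁅V, A'⁆ = (⁅V, A⁆).map φ := by rw [Subgroup.map_commutator, hVg]
    have hA'E : A' ≤ E := by
      rintro _ ⟨a, ha, rfl⟩
      exact mul_mem (mul_mem hgE (hP.le₁ ha)) (inv_mem hgE)
    have hsA' : (A'.subgroupOf E).IsSubnormal := by
      have he : A'.subgroupOf E =
          (A.subgroupOf E).map (MulAut.conj (⟨g, hgE⟩ : E)).toMonoidHom := by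
        ext x
        constructor
        · rintro ⟨a, ha, hax⟩
          exact ⟨⟨a, hP.le₁ ha⟩, ha, Subtype.ext hax⟩
        · rintro ⟨a, ha, rfl⟩
          exact ⟨a, ha, rfl⟩
      rw [he]
      exact hP.hs₁.map (MulAut.conj (⟨g, hgE⟩ : E)).surjective
    set F := A ⊔ A' with hF
    have hFE : F ≤ E := sup_le hP.le₁ hA'E
    have hne : A.subgroupOf E ≠ ⊤ := fun e => hP.h21 (Subgroup.commutator_mono le_rfl
      (hP.le₂.trans (Subgroup.subgroupOf_eq_top.mp e)))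
    obtain ⟨K, hKn, hAK, hKlt⟩ := hP.hs₁.exists_normal_and_le_and_lt_top_of_ne hne
    have hFK : F ≤ K.map E.subtype := by
      refine sup_le (fun a ha => ⟨⟨a, hP.le₁ ha⟩, hAK ha, rfl⟩) ?_
      rintro _ ⟨a, ha, rfl⟩
      exact ⟨_, hKn.conj_mem ⟨a, hP.le₁ ha⟩ (hAK ha) ⟨g, hgE⟩, rfl⟩
    have hFn : Nat.card F ≤ n := by
      have h1 := Subgroup.card_le_of_le hFK
      rw [← Nat.card_congr (K.equivMapOfInjective _ E.subtype_injective).toEquiv] at h1
      have h2 : Nat.card K < Nat.card E := lt_of_le_of_ne K.card_le_card_group fun e =>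
        hKlt.ne (Subgroup.eq_top_of_card_eq K e)
      omega
    have hsF : (F.subgroupOf E).IsSubnormal := by
      rw [hF, Subgroup.subgroupOf_sup hP.le₁ hA'E]
      exact H3.subnormal_sup hP.hs₁ hsA'
    have hres : ∀ X : Subgroup G, (X.subgroupOf E).IsSubnormal → (X.subgroupOf F).IsSubnormal := by
      intro X hX
      exact (hX.comap (Subgroup.inclusion hFE) :)
    have hOpF : pCore p ↥F = ⊥ := by
      set P := (pCore p ↥F).map F.subtype with hPd
      have hPF : P ≤ F := Subgroup.map_subtype_le _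
      have hsP : (P.subgroupOf E).IsSubnormal := by
        refine Subgroup.IsSubnormal.trans (K := F.subgroupOf E) (Subgroup.comap_mono hPF) ?_ hsF
        have h1 : (P.subgroupOf F).IsSubnormal := by
          rw [Subgroup.subgroupOf, hPd, Subgroup.comap_map_eq_self_of_injective F.subtype_injective]
          exact (pCore_normal (p := p) (G := ↥F)).isSubnormal
        exact (h1.comap (Subgroup.subgroupOfEquivOfLe hFE).toMonoidHom :)
      exact (Subgroup.map_eq_bot_iff_of_injective _ F.subtype_injective).mp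
        (hP.eq_bot_of_isPGroup (hPF.trans hFE) hsP (pCore_isPGroup.map _))
    have hcardW : Nat.card ↥((⁅V, A⁆).map φ) = Nat.card ↥⁅V, A⁆ :=
      (Nat.card_congr ((⁅V, A⁆).equivMapOfInjective φ hinj).toEquiv).symm
    have hQ : SubPair p V F A A' := by
      refine ⟨hP.hV, hFE.trans hP.hEV, le_bot_iff.mp ((inf_le_inf_right _ hFE).trans hP.hf.le),
        hF, hres A hP.hs₁, hres A' hsA', hOpF, hP.hirr₁, ?_, ?_, ?_, hP.hc₁, ?_⟩
      · intro U hU hUn
        rw [hW'] at hU ⊢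
        set ψ := (MulAut.conj g⁻¹).toMonoidHom with hψ
        have hφψ : ∀ X : Subgroup G, (X.map ψ).map φ = X := fun X => by
          rw [Subgroup.map_map]
          convert Subgroup.map_id X
          ext x; simp [hφ, hψ, mul_assoc]
        have hψφ : ∀ X : Subgroup G, (X.map φ).map ψ = X := fun X => by
          rw [Subgroup.map_map]
          convert Subgroup.map_id X
          ext x; simp [hφ, hψ, mul_assoc]
        have h1 : U.map ψ ≤ ⁅V, A⁆ := by
          have := Subgroup.map_mono (f := ψ) hU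
          rwa [hψφ] at this
        have h2 : A ≤ Subgroup.normalizer ((U.map ψ : Subgroup G) : Set G) := by
          refine le_trans ?_ (Subgroup.le_normalizer_map ψ)
          rw [← hψφ A]
          exact Subgroup.map_mono hUn
        rcases hP.hirr₁ _ h1 h2 with h0 | h0
        · exact Or.inl (by rw [← hφψ U, h0, Subgroup.map_bot])
        · exact Or.inr (by rw [← hφψ U, h0])
      · rw [hW']
        intro hle
        exact hgn (Subgroup.mem_normalizer_iff_map_conj_eq.mpr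
          (Subgroup.eq_of_le_of_card_ge hle hcardW.le).symm)
      · rw [hW']
        intro hle
        exact hgn (Subgroup.mem_normalizer_iff_map_conj_eq.mpr
          (Subgroup.eq_of_le_of_card_ge hle hcardW.ge))
      · rw [← Nat.card_congr (A.equivMapOfInjective φ hinj).toEquiv]; exact hP.hc₁
    obtain ⟨hcomm, -, hinf, -⟩ := ih F A A' hFn hQ
    rw [hW'] at hinf
    refine ⟨hinf, fun e he w hw => ?_⟩
    have heA' : e ∈ Subgroup.normalizer (A' : Set G) :=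
      Subgroup.centralizer_le_normalizer _ (Subgroup.commutator_eq_bot_iff_le_centralizer.mp hcomm he)
    have hgw : g * w * g⁻¹ ∈ (⁅V, A⁆).map φ := ⟨w, hw, rfl⟩
    have hen : e ∈ Subgroup.normalizer (((⁅V, A⁆).map φ : Subgroup G) : Set G) := by
      rw [← hW', Subgroup.mem_normalizer_iff_map_conj_eq, Subgroup.map_commutator,
        Subgroup.mem_normalizer_iff_map_conj_eq.mp (hP.hEV (hP.le₁ he)),
        Subgroup.mem_normalizer_iff_map_conj_eq.mp heA']
    have h4 : ⁅e, g * w * g⁻¹⁆ ∈ ⁅V, A⁆ ⊓ (⁅V, A⁆).map φ := by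
      refine Subgroup.mem_inf.mpr ⟨?_, ?_⟩
      · rw [Subgroup.commutator_comm]
        refine Subgroup.commutator_mem_commutator he ?_
        exact (Subgroup.mem_normalizer_iff.mp (hP.hEV hgE) w).mp (hP.comm_le _ hP.le₁ hw)
      · rw [commutatorElement_def]
        exact mul_mem ((Subgroup.mem_normalizer_iff.mp hen _).mp hgw) (inv_mem hgw)
    rw [hinf, Subgroup.mem_bot] at h4
    exact commutatorElement_eq_one_iff_mul_comm.mp h4
  -- a module moved by one side is moved by the other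
  have moves : ∀ A B : Subgroup G, SubPair p V E A B →
      ¬ B ≤ Subgroup.normalizer ((⁅V, A⁆ : Subgroup G) : Set G) →
      ¬ A ≤ Subgroup.normalizer ((⁅V, B⁆ : Subgroup G) : Set G) := by
    intro A B hP hB hA
    obtain ⟨g, hg, hgn⟩ := SetLike.not_le_iff_exists.mp hB
    obtain ⟨-, hfix⟩ := conjpair A B hP g hg hgn
    apply hP.h12
    rw [← hP.self_commutator, Subgroup.commutator_le]
    intro w hw e he
    have hwV := hP.comm_le _ hP.le₁ hw
    set d := ⁅g, w⁆ with hd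
    have hdW : d ∈ ⁅V, B⁆ := by
      rw [Subgroup.commutator_comm]; exact Subgroup.commutator_mem_commutator hg hwV
    have hgw : g * w * g⁻¹ = d * w := by rw [hd, commutatorElement_def, inv_mul_cancel_right]
    have h1 : (e * d * e⁻¹) * (e * w * e⁻¹) = d * w := by
      calc e * d * e⁻¹ * (e * w * e⁻¹) = e * (d * w) * e⁻¹ := by group
        _ = d * w := by rw [← hgw]; exact mul_inv_eq_iff_eq_mul.mpr (hfix e he w hw)
    have h2 : ⁅w, e⁆ = (e * d * e⁻¹) * d⁻¹ := by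
      have h3 : e * w * e⁻¹ ∈ V :=
        (Subgroup.mem_normalizer_iff.mp (hP.hEV (hP.le₁ he)) w).mp hwV
      have h4 : e * d * e⁻¹ ∈ V :=
        (Subgroup.mem_normalizer_iff.mp (hP.hEV (hP.le₁ he)) d).mp (hP.comm_le _ hP.le₂ hdW)
      have h5 : e * d * e⁻¹ = d * w * (e * w * e⁻¹)⁻¹ := eq_mul_inv_of_mul_eq h1
      rw [h5, commutatorElement_def]
      have hdV := hP.comm_le _ hP.le₂ hdW
      calc w * e * w⁻¹ * e⁻¹ = d * d⁻¹ * (w * (e * w * e⁻¹)⁻¹) := by group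
        _ = d * (w * (e * w * e⁻¹)⁻¹ * d⁻¹) := by
            rw [mul_assoc d d⁻¹, comm_of_elem hP.hV (inv_mem hdV) (mul_mem hwV (inv_mem h3))]
        _ = _ := by group
    rw [h2]
    exact mul_mem ((Subgroup.mem_normalizer_iff.mp (hA he) d).mp hdW) (inv_mem hdW)
  by_cases hn₂ : E₂ ≤ Subgroup.normalizer ((⁅V, E₁⁆ : Subgroup G) : Set G)
  · by_cases hn₁ : E₁ ≤ Subgroup.normalizer ((⁅V, E₂⁆ : Subgroup G) : Set G)
    · exact h.of_invariant hn₂ hn₁
    · exact absurd hn₂ (moves E₂ E₁ h.symm hn₁)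
  exfalso
  have hn₁ := moves E₁ E₂ h hn₂
  -- counting
  have hcard : ∀ A B : Subgroup G, SubPair p V E A B → ∀ g ∈ B,
      g ∉ Subgroup.normalizer ((⁅V, A⁆ : Subgroup G) : Set G) →
      ∃ f : ↥⁅V, A⁆ → ↥⁅V, B⁆, Function.Injective f ∧ ∀ w, (f w : G) = ⁅g, (w : G)⁆ := by
    intro A B hP g hg hgn
    obtain ⟨hinf, -⟩ := conjpair A B hP g hg hgn
    refine ⟨fun w => ⟨⁅g, (w : G)⁆, ?_⟩, fun w v hwv => ?_, fun w => rfl⟩
    · rw [Subgroup.commutator_comm]
      exact Subgroup.commutator_mem_commutator hg (hP.comm_le _ hP.le₁ w.2)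
    · have e : ⁅g, (w : G)⁆ = ⁅g, (v : G)⁆ := congrArg Subtype.val hwv
      rw [commutatorElement_def, commutatorElement_def] at e
      have h1 : g * ((v : G)⁻¹ * w) * g⁻¹ = (v : G)⁻¹ * w := by
        calc g * ((v : G)⁻¹ * w) * g⁻¹
            = (g * v * g⁻¹)⁻¹ * (g * w * g⁻¹ * (w : G)⁻¹) * w := by group
          _ = (v : G)⁻¹ * w := by rw [e]; group
      have h2 : (v : G)⁻¹ * w ∈ ⁅V, A⁆ ⊓ (⁅V, A⁆).map (MulAut.conj g).toMonoidHom :=
        Subgroup.mem_inf.mpr ⟨mul_mem (inv_mem v.2) w.2, ⟨_, mul_mem (inv_mem v.2) w.2, h1⟩⟩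
      rw [hinf, Subgroup.mem_bot, inv_mul_eq_one] at h2
      exact Subtype.ext h2.symm
  obtain ⟨g₀, hg₀, hg₀n⟩ := SetLike.not_le_iff_exists.mp hn₂
  obtain ⟨g₁, hg₁, hg₁n⟩ := SetLike.not_le_iff_exists.mp hn₁
  have hcardeq : Nat.card ↥⁅V, E₁⁆ = Nat.card ↥⁅V, E₂⁆ := by
    obtain ⟨f, hf, -⟩ := hcard E₁ E₂ h g₀ hg₀ hg₀n
    obtain ⟨f', hf', -⟩ := hcard E₂ E₁ h.symm g₁ hg₁ hg₁n
    exact le_antisymm (Nat.card_le_card_of_injective f hf) (Nat.card_le_card_of_injective f' hf')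
  set W₁ := ⁅V, E₁⁆ with hW₁
  set W₂ := ⁅V, E₂⁆ with hW₂
  set N := Subgroup.normalizer (W₁ : Set G) with hN
  have hsurj : ∀ g ∈ E₂, g ∉ N → ∀ d ∈ W₂, ∃ w ∈ W₁, ⁅g, w⁆ = d := by
    intro g hg hgn d hd
    obtain ⟨f, hf, hfe⟩ := hcard E₁ E₂ h g hg hgn
    obtain ⟨w, hw⟩ := ((Nat.bijective_iff_injective_and_card f).mpr ⟨hf, hcardeq⟩).2 ⟨d, hd⟩
    exact ⟨w, w.2, by rw [← hfe, hw]⟩
  have htwo : ∀ g ∈ E₂, g ∉ N → ∀ g' ∈ E₂, g' ∉ N → g⁻¹ * g' ∈ N := by
    intro g hg hgn g' hg' hg'n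
    by_contra hd
    obtain ⟨-, hfix⟩ := conjpair E₁ E₂ h g hg hgn
    obtain ⟨-, hfix'⟩ := conjpair E₁ E₂ h g' hg' hg'n
    obtain ⟨hinfd, -⟩ := conjpair E₁ E₂ h _ (mul_mem (inv_mem hg) hg') hd
    apply h.ne_bot₁
    rw [eq_bot_iff]
    intro v hv
    rw [Subgroup.mem_bot]
    obtain ⟨w, hw, hwe⟩ := hsurj g hg hgn ⁅g', v⁆ (by
      rw [hW₂, Subgroup.commutator_comm]
      exact Subgroup.commutator_mem_commutator hg' (h.comm_le _ h.le₁ hv))
    have hwv : w⁻¹ * v = 1 := by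
      refine h.fixed_eq_one (mul_mem (inv_mem hw) hv) fun e he => mul_inv_eq_iff_eq_mul.mp ?_
      have e1 : g * w * g⁻¹ = ⁅g', v⁆ * w := by
        rw [← hwe, commutatorElement_def, inv_mul_cancel_right]
      have e2 : (g * w * g⁻¹)⁻¹ * (g' * v * g'⁻¹) = w⁻¹ * v := by
        rw [e1, commutatorElement_def]; group
      rw [← e2]
      calc e * ((g * w * g⁻¹)⁻¹ * (g' * v * g'⁻¹)) * e⁻¹
          = (e * (g * w * g⁻¹) * e⁻¹)⁻¹ * (e * (g' * v * g'⁻¹) * e⁻¹) := by group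
        _ = _ := by rw [mul_inv_eq_iff_eq_mul.mpr (hfix e he w hw),
              mul_inv_eq_iff_eq_mul.mpr (hfix' e he v hv)]
    rw [inv_mul_eq_one] at hwv
    subst hwv
    rw [commutatorElement_def, commutatorElement_def] at hwe
    have h1 : (g⁻¹ * g') * w * (g⁻¹ * g')⁻¹ = w := by
      calc (g⁻¹ * g') * w * (g⁻¹ * g')⁻¹ = g⁻¹ * (g' * w * g'⁻¹ * w⁻¹) * w * g := by group
        _ = w := by rw [← hwe]; group
    have h2 : w ∈ W₁ ⊓ W₁.map (MulAut.conj (g⁻¹ * g')).toMonoidHom :=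
      Subgroup.mem_inf.mpr ⟨hw, ⟨w, hw, h1⟩⟩
    rw [hinfd, Subgroup.mem_bot] at h2
    exact h2
  have hinf12 : W₁ ⊓ W₂ = ⊥ := by
    rw [eq_bot_iff]
    intro x hx
    obtain ⟨hinf₀, -⟩ := conjpair E₁ E₂ h g₀ hg₀ hg₀n
    obtain ⟨w, hw, hwe⟩ := hsurj g₀ hg₀ hg₀n x hx.2
    have h1 : g₀ * w * g₀⁻¹ ∈ W₁ ⊓ W₁.map (MulAut.conj g₀).toMonoidHom := by
      refine Subgroup.mem_inf.mpr ⟨?_, ⟨w, hw, rfl⟩⟩
      have : g₀ * w * g₀⁻¹ = x * w := by rw [← hwe, commutatorElement_def, inv_mul_cancel_right]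
      rw [this]; exact mul_mem hx.1 hw
    rw [hinf₀, Subgroup.mem_bot, mul_inv_eq_one, mul_eq_left] at h1
    rw [Subgroup.mem_bot, ← hwe, h1, commutatorElement_one_right]
  set S := E₂ ⊓ N with hS
  have hSn : (S.subgroupOf E₂).Normal := by
    refine ⟨fun s hs x => ?_⟩
    rw [Subgroup.mem_subgroupOf] at hs ⊢
    have hs2 : (s : G) ∈ N := hs.2
    by_cases hx : (x : G) ∈ N
    · exact Subgroup.mem_inf.mpr ⟨(x * s * x⁻¹).2, mul_mem (mul_mem hx hs2) (inv_mem hx)⟩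
    · refine Subgroup.mem_inf.mpr ⟨(x * s * x⁻¹).2, ?_⟩
      have h1 : (x : G) * s ∉ N := fun hc => hx (by simpa using mul_mem hc (inv_mem hs2))
      have := htwo _ (inv_mem (mul_mem x.2 s.2)) (fun hc => h1 (by simpa using inv_mem hc)) _
        (inv_mem x.2) (fun hc => hx (by simpa using inv_mem hc))
      simpa using this
  have hS1 : S = ⊥ := by
    have hsS : (S.subgroupOf E).IsSubnormal := by
      refine Subgroup.IsSubnormal.trans (K := E₂.subgroupOf E) (Subgroup.comap_mono inf_le_left) ?_ h.hs₂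
      exact (hSn.isSubnormal.comap (Subgroup.subgroupOfEquivOfLe h.le₂).toMonoidHom :)
    have hfix1 : ∀ s ∈ S, ∀ w ∈ W₁, s * w = w * s := by
      intro s hs w hw
      have h1 : ⁅s, w⁆ ∈ W₁ ⊓ W₂ := by
        refine Subgroup.mem_inf.mpr ⟨?_, ?_⟩
        · rw [commutatorElement_def]
          exact mul_mem ((Subgroup.mem_normalizer_iff.mp hs.2 w).mp hw) (inv_mem hw)
        · rw [hW₂, Subgroup.commutator_comm]
          exact Subgroup.commutator_mem_commutator hs.1 (h.comm_le _ h.le₁ hw)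
      rw [hinf12, Subgroup.mem_bot] at h1
      exact commutatorElement_eq_one_iff_mul_comm.mp h1
    refine h.eq_bot_of_stab (inf_le_left.trans h.le₂) hsS (h.comm_le _ h.le₂)
      (Subgroup.commutator_mono le_rfl inf_le_left) ?_
    rw [Subgroup.commutator_eq_bot_iff_le_centralizer]
    intro d hd
    rw [Subgroup.mem_centralizer_iff]
    intro s hs
    obtain ⟨w, hw, rfl⟩ := hsurj g₀ hg₀ hg₀n d hd
    have hs' : g₀⁻¹ * s * g₀ ∈ S := by
      have := hSn.conj_mem ⟨s, hs.1⟩ hs ⟨g₀⁻¹, inv_mem hg₀⟩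
      rw [Subgroup.mem_subgroupOf] at this
      simpa using this
    have hgw : s * (g₀ * w * g₀⁻¹) = g₀ * w * g₀⁻¹ * s := by
      calc s * (g₀ * w * g₀⁻¹) = g₀ * (g₀⁻¹ * s * g₀ * w) * g₀⁻¹ := by group
        _ = g₀ * (w * (g₀⁻¹ * s * g₀)) * g₀⁻¹ := by rw [hfix1 _ hs' w hw]
        _ = _ := by group
    rw [commutatorElement_def]
    exact ((show Commute s _ from hgw).mul_right
      (show Commute s w⁻¹ from (show Commute s w from hfix1 s hs w hw).inv_right)).eq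
  have hle : ∀ x ∈ E₂, x = 1 ∨ x = g₀ := by
    intro x hx
    by_cases hxn : x ∈ N
    · exact Or.inl (Subgroup.mem_bot.mp (hS1 ▸ Subgroup.mem_inf.mpr ⟨hx, hxn⟩))
    · refine Or.inr (inv_mul_eq_one.mp (Subgroup.mem_bot.mp (hS1 ▸ Subgroup.mem_inf.mpr
        ⟨mul_mem (inv_mem hg₀) hx, htwo g₀ hg₀ hg₀n x hx hxn⟩))).symm
  have h3 : Nat.card E₂ ≤ 2 := by
    classical
    refine (Nat.card_le_card_of_injective (fun x : E₂ => decide ((x : G) = 1)) fun x y hxy => ?_).trans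
      (by rw [Nat.card_eq_fintype_card, Fintype.card_bool])
    apply Subtype.ext
    have hxy' : ((x : G) = 1) ↔ ((y : G) = 1) := decide_eq_decide.mp hxy
    rcases hle x x.2 with h1 | h1 <;> rcases hle y y.2 with h2 | h2 <;> rw [h1, h2]
    · rw [h2] at hxy'; exact (hxy'.mp h1).symm
    · rw [h1] at hxy'; exact hxy'.mpr h2
  exact absurd h.hc₂ (not_lt.mpr h3)

end H10
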