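import Cfsg.Agent.H10.PSolvable
import Cfsg.Agent.H18.BrauerApply
import Cfsg.Agent.H84.Invariant

/-!
Groups with fewer than `p²` Sylow `p`-subgroups: intersections, divisibility of Sylow counts, and
the criterion for `p`-solvability by the number being a prime power.
-/

set_option autoImplicit false
set_option linter.unusedSectionVars false

open Cfsg MulAction
open scoped Pointwise

namespace H10.SylowFew

universe u

variable {G : Type u} [Group G] [Finite G] {p : ℕ} [hp : Fact p.Prime]

theorem card_mul_relIndex' {H K : Subgroup G} (h : H ≤ K) :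
    Nat.card H * H.relIndex K = Nat.card K := by
  rw [← Subgroup.relIndex_bot_left, ← Subgroup.relIndex_bot_left,
    Subgroup.relIndex_mul_relIndex _ _ _ bot_le h]

theorem orbit_of_lt (hn : Nat.card (Sylow p G) < p ^ 2) {P R : Sylow p G} (h : R ≠ P) :
    (orbit (P : Subgroup G) R).ncard = p ∧
      ((P : Subgroup G) ⊓ (R : Subgroup G)).relIndex (P : Subgroup G) = p := by
  have hst : stabilizer (P : Subgroup G) R =
      ((P : Subgroup G) ⊓ (R : Subgroup G)).subgroupOf (P : Subgroup G) := by
    ext x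
    rw [mem_stabilizer_iff, Subgroup.mem_subgroupOf, ← P.2.inf_normalizer_sylow R,
      Subgroup.mem_inf, ← Sylow.smul_eq_iff_mem_normalizer]
    exact ⟨fun hx => ⟨x.2, hx⟩, fun hx => hx.2⟩
  have hidx := index_stabilizer (G := (P : Subgroup G)) R
  rw [hst] at hidx
  have hpk : ((P : Subgroup G) ⊓ (R : Subgroup G)).relIndex (P : Subgroup G) =
      (orbit (P : Subgroup G) R).ncard := hidx
  obtain ⟨k, hk⟩ := P.2.index (((P : Subgroup G) ⊓ (R : Subgroup G)).subgroupOf (P : Subgroup G))
  have hk' : ((P : Subgroup G) ⊓ (R : Subgroup G)).relIndex (P : Subgroup G) = p ^ k := hk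
  have hle : (orbit (P : Subgroup G) R).ncard ≤ Nat.card (Sylow p G) := Set.ncard_le_card _
  have hk0 : k ≠ 0 := by
    rintro rfl
    rw [pow_zero, Subgroup.relIndex_eq_one] at hk'
    exact h (Sylow.ext ((P.is_maximal' R.2 (hk'.trans inf_le_right))))
  have hk2 : k < 2 := by
    rw [← hpk, hk'] at hle
    exact (Nat.pow_lt_pow_iff_right hp.out.one_lt).1 (hle.trans_lt hn)
  have hk1 : k = 1 := by omega
  subst hk1
  rw [pow_one] at hk'
  exact ⟨hpk ▸ hk', hk'⟩

theorem card_inf_mul (hn : Nat.card (Sylow p G) < p ^ 2) {P R : Sylow p G} (h : R ≠ P) :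
    Nat.card ((P : Subgroup G) ⊓ (R : Subgroup G) : Subgroup G) * p =
      Nat.card (P : Subgroup G) := by
  have := card_mul_relIndex' (inf_le_left : (P : Subgroup G) ⊓ (R : Subgroup G) ≤ P)
  rwa [(orbit_of_lt hn h).2] at this

/-- The intersection of two Sylow subgroups is normal in each of them, so that the members of an
orbit all contain it. -/
theorem inf_smul_eq (hn : Nat.card (Sylow p G) < p ^ 2) {P R : Sylow p G} (h : R ≠ P) {Y : Sylow p G}
    (hY : Y ∈ orbit (P : Subgroup G) R) :
    (P : Subgroup G) ⊓ (R : Subgroup G) = (P : Subgroup G) ⊓ (Y : Subgroup G) := by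
  obtain ⟨x, rfl⟩ := hY
  set D := (P : Subgroup G) ⊓ (R : Subgroup G) with hD
  have hidx : (D.subgroupOf (P : Subgroup G)).index = p := (orbit_of_lt hn h).2
  have hmin : (D.subgroupOf (P : Subgroup G)).index =
      (Nat.card (P : Subgroup G)).minFac := by
    have hne : Nat.card (P : Subgroup G) ≠ 1 := fun h1 => by
      have := (D.subgroupOf (P : Subgroup G)).index_dvd_card
      rw [hidx, h1] at this
      exact hp.out.one_lt.ne' (Nat.dvd_one.1 this)
    obtain ⟨k, hk⟩ := P.2.exists_card_eq
    rw [hidx, hk, hp.out.pow_minFac (fun h0 => hne (by rw [hk, h0, pow_zero]))]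
  have hnorm : (D.subgroupOf (P : Subgroup G)).Normal :=
    Subgroup.normal_of_index_eq_minFac_card hmin
  ext y
  constructor
  · intro hy
    refine ⟨(hy : y ∈ D).1, ?_⟩
    show y ∈ (((x : G) • R : Sylow p G) : Subgroup G)
    rw [Sylow.coe_subgroup_smul, Subgroup.mem_pointwise_smul_iff_inv_smul_mem, MulAut.smul_def,
      MulAut.inv_def, MulAut.conj_symm_apply]
    have h1 := hnorm.conj_mem ⟨y, hy.1⟩ hy x⁻¹
    simp only [Subgroup.mem_subgroupOf, Subgroup.coe_mul, Subgroup.coe_inv, inv_inv] at h1
    exact h1.2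
  · rintro ⟨hyP, hy⟩
    refine ⟨hyP, ?_⟩
    change y ∈ (((x : G) • R : Sylow p G) : Subgroup G) at hy
    rw [Sylow.coe_subgroup_smul, Subgroup.mem_pointwise_smul_iff_inv_smul_mem, MulAut.smul_def,
      MulAut.inv_def, MulAut.conj_symm_apply] at hy
    have h1 := hnorm.conj_mem
      ⟨(x : G)⁻¹ * y * x, (P : Subgroup G).mul_mem ((P : Subgroup G).mul_mem ((P : Subgroup G).inv_mem x.2) hyP) x.2⟩
      ⟨(P : Subgroup G).mul_mem ((P : Subgroup G).mul_mem ((P : Subgroup G).inv_mem x.2) hyP) x.2, hy⟩ x
    simp only [Subgroup.mem_subgroupOf, Subgroup.coe_mul, Subgroup.coe_inv] at h1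
    rw [show (x : G) * ((x : G)⁻¹ * y * x) * (x : G)⁻¹ = y by group] at h1
    exact h1.2

/-- The intersection of two Sylow subgroups lies in every Sylow subgroup. -/
theorem inf_le_all (hn : Nat.card (Sylow p G) < p ^ 2) {P R : Sylow p G} (h : R ≠ P)
    (T : Sylow p G) : (P : Subgroup G) ⊓ (R : Subgroup G) ≤ (T : Subgroup G) := by
  classical
  by_contra hT
  letI := Fintype.ofFinite (Sylow p G)
  set D := (P : Subgroup G) ⊓ (R : Subgroup G) with hD
  let A : Finset (Sylow p G) := Finset.univ.filter fun X => D ≤ (X : Subgroup G)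
  have hXT : ∀ X ∈ A, X ≠ T := fun X hX e => hT (e ▸ (Finset.mem_filter.1 hX).2)
  have hA : p + 1 ≤ A.card := by
    have hsub : insert P (orbit (P : Subgroup G) R).toFinset ⊆ A := by
      intro X hX
      refine Finset.mem_filter.2 ⟨Finset.mem_univ X, ?_⟩
      rcases Finset.mem_insert.1 hX with rfl | hX
      · exact inf_le_left
      · exact (inf_smul_eq hn h (Set.mem_toFinset.1 hX)).trans_le inf_le_right
    refine le_trans (le_of_eq ?_) (Finset.card_le_card hsub)
    rw [Finset.card_insert_of_notMem, ← Set.ncard_eq_toFinset_card', (orbit_of_lt hn h).1]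
    intro hP
    obtain ⟨x, hx⟩ := Set.mem_toFinset.1 hP
    refine h ?_
    refine smul_left_cancel (x : G) ?_
    exact (hx : (x : G) • R = P).trans
      (Sylow.smul_eq_iff_mem_normalizer.2 (Subgroup.le_normalizer x.2)).symm
  have hdisj : ∀ X ∈ A, ∀ X' ∈ A, X ≠ X' →
      Disjoint (orbit (T : Subgroup G) X).toFinset (orbit (T : Subgroup G) X').toFinset := by
    intro X hX X' hX' hne
    rw [Finset.disjoint_left]
    intro Y hY hY'
    have e := (inf_smul_eq hn (hXT X hX) (Set.mem_toFinset.1 hY)).trans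
      (inf_smul_eq hn (hXT X' hX') (Set.mem_toFinset.1 hY')).symm
    have hE : (T : Subgroup G) ⊓ (X : Subgroup G) ≤ (X : Subgroup G) ⊓ (X' : Subgroup G) :=
      le_inf inf_le_right (e.trans_le inf_le_right)
    have hDX : D ≤ (X : Subgroup G) ⊓ (X' : Subgroup G) :=
      le_inf (Finset.mem_filter.1 hX).2 (Finset.mem_filter.1 hX').2
    have hc : ∀ U : Sylow p G, Nat.card (U : Subgroup G) = Nat.card (P : Subgroup G) := fun U => by
      rw [U.card_eq_multiplicity, P.card_eq_multiplicity]
    have h1 := card_inf_mul hn (hXT X hX)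
    have h2 := card_inf_mul hn hne.symm
    have h3 := card_inf_mul hn h
    rw [hc] at h1 h2
    have e1 : (T : Subgroup G) ⊓ (X : Subgroup G) = (X : Subgroup G) ⊓ (X' : Subgroup G) :=
      Subgroup.eq_of_le_of_card_ge hE
        (le_of_eq (Nat.eq_of_mul_eq_mul_right hp.out.pos (h2.trans h1.symm)))
    have e2 : D = (X : Subgroup G) ⊓ (X' : Subgroup G) :=
      Subgroup.eq_of_le_of_card_ge hDX
        (le_of_eq (Nat.eq_of_mul_eq_mul_right hp.out.pos (h2.trans h3.symm)))
    exact hT ((e2.trans e1.symm).trans_le inf_le_left)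
  have hcard := Finset.card_le_univ (A.biUnion fun X => (orbit (T : Subgroup G) X).toFinset)
  rw [Finset.card_biUnion hdisj, Finset.sum_congr rfl (fun X hX => by
    rw [← Set.ncard_eq_toFinset_card', (orbit_of_lt hn (hXT X hX)).1]),
    Finset.sum_const, smul_eq_mul, ← Nat.card_eq_fintype_card] at hcard
  have := Nat.mul_le_mul_right p hA
  nlinarith

theorem card_eq_prime [IsSimpleGroup G] (hn : Nat.card (Sylow p G) < p ^ 2) (P : Sylow p G)
    (hP : ¬ (P : Subgroup G).Normal) : Nat.card (P : Subgroup G) = p := by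
  obtain ⟨g, hg⟩ : ∃ g : G, g • P ≠ P := by
    by_contra! hc
    exact hP (Subgroup.normalizer_eq_top_iff.1
      (eq_top_iff.2 fun g _ => Sylow.smul_eq_iff_mem_normalizer.1 (hc g)))
  set D := (P : Subgroup G) ⊓ ((g • P : Sylow p G) : Subgroup G) with hD
  set K : Subgroup G := ⨅ T : Sylow p G, (T : Subgroup G) with hK
  have hKn : K.Normal := by
    refine ⟨fun x hx c => ?_⟩
    rw [hK, Subgroup.mem_iInf] at hx ⊢
    intro T
    have h1 := hx (c⁻¹ • T)
    rw [Sylow.coe_subgroup_smul, Subgroup.mem_pointwise_smul_iff_inv_smul_mem, MulAut.smul_def,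
      map_inv, inv_inv] at h1
    simpa using h1
  have hDK : D ≤ K := le_iInf fun T => inf_le_all hn hg T
  rcases hKn.eq_bot_or_eq_top with hb | ht
  · have h1 := card_inf_mul hn hg
    rw [← hD, (le_bot_iff.1 (hb ▸ hDK) : D = ⊥), Subgroup.card_bot, one_mul] at h1
    exact h1.symm
  · exact absurd ((eq_top_iff.2 (ht ▸ iInf_le _ P) : (P : Subgroup G) = ⊤) ▸
      (inferInstance : (⊤ : Subgroup G).Normal)) hP

/-! ### Sylow counts of normal subgroups and quotients -/

theorem card_sylow_normal_dvd (N : Subgroup G) [N.Normal] :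
    Nat.card (Sylow p N) ∣ Nat.card (Sylow p G) := by
  obtain ⟨Q⟩ : Nonempty (Sylow p N) := inferInstance
  obtain ⟨P, hP⟩ := (Q.2.map N.subtype).exists_le_sylow
  have hQ : (Q : Subgroup N).map N.subtype = (P : Subgroup G) ⊓ N := by
    refine le_antisymm (le_inf hP (Subgroup.map_subtype_le _)) ?_
    have h1 : ((P : Subgroup G) ⊓ N).subgroupOf N = Q := by
      refine Q.is_maximal' (P.2.to_le inf_le_left).comap_subtype ?_
      intro x hx
      exact ⟨hP ⟨x, hx, rfl⟩, x.2⟩
    rw [← h1, Subgroup.map_subgroupOf_eq_of_le inf_le_right]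
  have hle : Subgroup.normalizer ((P : Subgroup G) : Set G) ≤
      Subgroup.normalizer (((Q : Subgroup N).map N.subtype : Subgroup G) : Set G) := by
    intro g hg
    rw [Subgroup.mem_normalizer_iff_map_conj_eq] at hg ⊢
    rw [hQ, Subgroup.map_inf _ _ _ (MulAut.conj g).injective, hg, Subgroup.Normal.map_conj_eq]
  have h2 : (Subgroup.normalizer (((Q : Subgroup N).map N.subtype : Subgroup G) : Set G)).index =
      Nat.card (Sylow p N) := by
    set H := Subgroup.normalizer (((Q : Subgroup N).map N.subtype : Subgroup G) : Set G) with hH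
    rw [Q.card_eq_index_normalizer, ← H.relIndex_top_right,
      ← Q.normalizer_sup_eq_top, ← hH, sup_comm]
    have h3 : (Subgroup.normalizer (Q : Set N)) = H.subgroupOf N := by
      ext x
      show x ∈ Subgroup.normalizer ((Q : Subgroup N) : Set N) ↔ _
      rw [Subgroup.mem_subgroupOf, hH, Subgroup.mem_normalizer_iff, Subgroup.mem_normalizer_iff]
      constructor
      · intro hx y
        constructor
        · rintro ⟨y', hy', rfl⟩
          exact ⟨_, (hx y').1 hy', by simp⟩
        · rintro ⟨y', hy', he⟩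
          have hy : y = (x : G)⁻¹ * y' * x := by
            rw [show (y' : G) = (x : G) * y * (x : G)⁻¹ from he]; group
          refine ⟨x⁻¹ * y' * x, ?_, ?_⟩
          · refine (hx _).2 ?_
            rw [show x * (x⁻¹ * y' * x) * x⁻¹ = y' by group]; exact hy'
          · rw [hy]; simp
      · intro hx y
        have := hx (y : G)
        rwa [show (y : G) = N.subtype y from rfl, Subgroup.mem_map_iff_mem N.subtype_injective,
          show (x : G) * N.subtype y * (x : G)⁻¹ = N.subtype (x * y * x⁻¹) by simp,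
          Subgroup.mem_map_iff_mem N.subtype_injective] at this
    rw [h3]
    show H.relIndex (N ⊔ H) = H.relIndex N
    exact relIndex_sup_normal N H
  rw [P.card_eq_index_normalizer, ← h2]
  exact Subgroup.index_dvd_of_le hle
where
  relIndex_sup_normal (M H : Subgroup G) [M.Normal] : H.relIndex (M ⊔ H) = H.relIndex M := by
    have h1 : Nat.card M * M.relIndex H = Nat.card (M ⊔ H : Subgroup G) := by
      rw [← Subgroup.relIndex_sup_right, sup_comm H M]
      exact card_mul_relIndex' le_sup_left
    have h2 : Nat.card (H ⊓ M : Subgroup G) * H.relIndex M = Nat.card M := by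
      rw [← Subgroup.inf_relIndex_right H M]
      exact card_mul_relIndex' inf_le_right
    have h3 : Nat.card (H ⊓ M : Subgroup G) * M.relIndex H = Nat.card H := by
      rw [← Subgroup.inf_relIndex_right M H, inf_comm M H]
      exact card_mul_relIndex' inf_le_left
    have h4 : Nat.card H * H.relIndex (M ⊔ H) = Nat.card (M ⊔ H : Subgroup G) :=
      card_mul_relIndex' le_sup_right
    rw [← h1, ← h3] at h4
    have hI : 0 < M.relIndex H := Nat.pos_of_ne_zero Subgroup.FiniteIndex.index_ne_zero
    have hc : 0 < Nat.card (H ⊓ M : Subgroup G) := Nat.card_pos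
    refine Nat.eq_of_mul_eq_mul_left (Nat.mul_pos hc hI) (h4.trans ?_)
    rw [← h2]; ring

/-- Sylow counts in a quotient. -/
theorem card_sylow_quot (M : Subgroup G) [M.Normal] (P : Sylow p G) :
    Nat.card (Sylow p G) = Nat.card (Sylow p (G ⧸ M)) *
      (Subgroup.normalizer ((P : Subgroup G) : Set G)).relIndex M := by
  set π := QuotientGroup.mk' M with hπ
  have hπs : Function.Surjective π := QuotientGroup.mk'_surjective M
  set H := Subgroup.normalizer ((P : Subgroup G) : Set G) with hH
  set X := (Subgroup.normalizer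
    (((P : Subgroup G).map π : Subgroup (G ⧸ M)) : Set (G ⧸ M))).comap π with hX
  have hXi : X.index = Nat.card (Sylow p (G ⧸ M)) := by
    rw [(P.mapSurjective hπs).card_eq_index_normalizer, hX, Subgroup.index_comap_of_surjective _ hπs]
    rfl
  have hXe : X = M ⊔ H := by
    refine le_antisymm ?_ (sup_le ?_ ?_)
    · intro g hg
      set L := ((P : Subgroup G).map π).comap π with hL
      have hPL : (P : Subgroup G) ≤ L := Subgroup.le_comap_map _ _
      have hgL : ((g • P : Sylow p G) : Subgroup G) ≤ L := by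
        intro y hy
        rw [Sylow.coe_subgroup_smul, Subgroup.mem_pointwise_smul_iff_inv_smul_mem,
          MulAut.smul_def, MulAut.inv_def, MulAut.conj_symm_apply] at hy
        have h1 := (Subgroup.mem_normalizer_iff.1 (hg : π g ∈ _) (π (g⁻¹ * y * g))).1 ⟨_, hy, rfl⟩
        rw [← map_inv, ← map_mul, ← map_mul, show g * (g⁻¹ * y * g) * g⁻¹ = y by group] at h1
        exact h1
      obtain ⟨k, hk⟩ := MulAction.exists_smul_eq L ((g • P).subtype hgL) (P.subtype hPL)
      rw [Sylow.smul_subtype] at hk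
      have hk' : ((k : G) * g) • P = P := by
        rw [mul_smul]; exact Sylow.subtype_injective hk
      have hkg : (k : G) * g ∈ H := Sylow.smul_eq_iff_mem_normalizer.1 hk'
      have hLe : L = M ⊔ (P : Subgroup G) := by
        rw [hL, Subgroup.comap_map_eq, QuotientGroup.ker_mk', sup_comm]
      have hkm : (k : G) ∈ M ⊔ H :=
        (sup_le_sup_left Subgroup.le_normalizer M : M ⊔ (P : Subgroup G) ≤ M ⊔ H) (hLe ▸ k.2)
      have h2 := mul_mem (inv_mem hkm) (Subgroup.mem_sup_right hkg)
      rwa [inv_mul_cancel_left] at h2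
    · intro m hm
      rw [hX, Subgroup.mem_comap]
      rw [(QuotientGroup.eq_one_iff m).2 hm |> (fun h => (show π m = 1 from h))]
      exact one_mem _
    · rw [hX, ← Subgroup.map_le_iff_le_comap]
      exact Subgroup.le_normalizer_map π
  rw [P.card_eq_index_normalizer, show Subgroup.normalizer (P : Set G) = H from rfl, ← hXi, hXe,
    ← card_sylow_normal_dvd.relIndex_sup_normal M H, mul_comm,
    Subgroup.relIndex_mul_index le_sup_right]

theorem card_sylow_quot_dvd (M : Subgroup G) [M.Normal] :
    Nat.card (Sylow p (G ⧸ M)) ∣ Nat.card (Sylow p G) := by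
  obtain ⟨P⟩ : Nonempty (Sylow p G) := inferInstance
  exact ⟨_, card_sylow_quot M P⟩

theorem sylow_count : Nat.card (Sylow p G) % p = 1 := by
  have h := card_sylow_modEq_one p G
  rwa [Nat.ModEq, Nat.mod_eq_of_lt hp.out.one_lt] at h

/-! ### Arithmetic -/

omit [Group G] [Finite G] in
theorem no_isF {q a ν : ℕ} (hq : q.Prime) (hn : q ^ a = 1 + ν * p) (hlt : q ^ a < p ^ 2)
    (hF : H18.BR.IsF ν p) : False := by
  obtain ⟨h, u, hh, hu, e⟩ := hF
  have hp2 := hp.out.two_le
  have hν : ν < p := by
    by_contra! hc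
    have := Nat.mul_le_mul_right p hc
    rw [hn, pow_two] at hlt; omega
  have h1 : h = 1 := by
    by_contra hne
    have h2 : 2 * u * p ≤ h * u * p := by gcongr; omega
    have h3 : ν * (u + 1) < p * (u + 1) := Nat.mul_lt_mul_of_pos_right hν (by omega)
    nlinarith
  subst h1
  obtain ⟨k, hk⟩ : ∃ k, p + u = ν + k := ⟨p + u - ν, by omega⟩
  have hpk : p = 1 + k * (u + 1) := by nlinarith
  have hk1 : 1 ≤ k := by
    rcases Nat.eq_zero_or_pos k with rfl | h
    · omega
    · exact h
  have hAB : q ^ a = (1 + (k + 1) * (u + 1)) * (1 + u * k) := by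
    rw [hn]
    have : ν + k = 1 + k * (u + 1) + u := by omega
    have hν' : ν = 1 + k * u + u := by nlinarith
    rw [hν', hpk]; ring
  obtain ⟨i, -, hi⟩ := (Nat.dvd_prime_pow hq).1 ⟨_, hAB⟩
  obtain ⟨j, -, hj⟩ := (Nat.dvd_prime_pow hq).1 (hAB ▸ dvd_mul_left (1 + u * k) _)
  have hlt2 : 1 + u * k < 1 + (k + 1) * (u + 1) := by nlinarith
  have hji : j < i := (Nat.pow_lt_pow_iff_right hq.one_lt).1 (hi ▸ hj ▸ hlt2)
  have hdvd : 1 + u * k ∣ 1 + (k + 1) * (u + 1) := hi.symm ▸ hj.symm ▸ pow_dvd_pow q hji.le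
  obtain ⟨c, hc⟩ := hdvd
  have hc2 : 2 ≤ c := by
    by_contra! hc'
    interval_cases c <;> omega
  have huk : u * k ≤ k + u := by nlinarith [Nat.mul_le_mul_left (1 + u * k) hc2]
  rcases Nat.lt_or_ge u 2 with hu2 | hu2
  · obtain rfl : u = 1 := by omega
    have hd : 1 + 1 * k ∣ 1 + (k + 1) * (1 + 1) := ⟨c, hc⟩
    have : 1 + 1 * k ∣ 1 :=
      (Nat.dvd_add_right (Dvd.intro 2 (by ring))).1
        (show 1 + 1 * k ∣ (1 + 1 * k) * 2 + 1 by
          rwa [show (1 + 1 * k) * 2 + 1 = 1 + (k + 1) * (1 + 1) by ring])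
    have := Nat.le_of_dvd one_pos this
    omega
  · rcases Nat.lt_or_ge k 2 with hk2 | hk2
    · obtain rfl : k = 1 := by omega
      have hd : 1 + u * 1 ∣ 1 + (1 + 1) * (u + 1) := ⟨c, hc⟩
      have : 1 + u * 1 ∣ 1 :=
        (Nat.dvd_add_right (Dvd.intro 2 (by ring))).1
          (show 1 + u * 1 ∣ (1 + u * 1) * 2 + 1 by
            rwa [show (1 + u * 1) * 2 + 1 = 1 + (1 + 1) * (u + 1) by ring])
      have := Nat.le_of_dvd one_pos this
      omega
    · have hu' : u = 2 := by nlinarith
      have hk' : k = 2 := by nlinarith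
      subst hu' hk'
      norm_num at hpk hAB
      subst hpk
      norm_num [hAB] at hlt

omit [Group G] [Finite G] in
theorem no_psl_order {q a : ℕ} (hq : q.Prime) (hp5 : 5 ≤ p) (hqp : q ≠ p)
    (hmod : q ^ a % p = 1) (h1 : 1 < q ^ a) (hex : ¬ ∃ k : ℕ, p + 1 = 2 ^ k) {c : ℕ}
    (hc : 2 * c = p * (p * p - 1) ∨ c = p * (p - 1) * (p - 2)) (hd : q ^ a ∣ c) : False := by
  have hcop : (q ^ a).Coprime p := ((Nat.coprime_primes hq hp.out).2 hqp).pow_left a
  have hge : p + 1 ≤ q ^ a := by
    by_contra! hlt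
    rcases Nat.lt_or_eq_of_le (Nat.le_of_lt_succ hlt) with h | h
    · rw [Nat.mod_eq_of_lt h] at hmod; omega
    · rw [h, Nat.mod_self] at hmod; omega
  rcases hc with hc | hc
  · have hsq : p * p - 1 = (p - 1) * (p + 1) := by
      rw [show p * p - 1 = p ^ 2 - 1 ^ 2 by ring_nf, Nat.sq_sub_sq, mul_comm]
    have h2 : 2 * q ^ a ∣ (p - 1) * (p + 1) := by
      have hcp : (2 * q ^ a).Coprime p :=
        Nat.Coprime.mul_left ((Nat.coprime_primes Nat.prime_two hp.out).2 (by omega)) hcop
      refine hcp.dvd_of_dvd_mul_left ?_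
      rw [← hsq, ← hc]
      exact Nat.mul_dvd_mul_left 2 hd
    have hodd : p % 2 = 1 := (hp.out.eq_two_or_odd).resolve_left (by omega)
    rcases eq_or_ne q 2 with rfl | hq2
    · obtain ⟨d, hd2⟩ : ∃ d, p = 2 * d + 1 := ⟨p / 2, by omega⟩
      subst hd2
      rw [show 2 * d + 1 - 1 = 2 * d by omega, show 2 * d + 1 + 1 = 2 * (d + 1) by ring] at h2
      have h3 : 2 ^ a ∣ d * (2 * (d + 1)) :=
        (Nat.mul_dvd_mul_iff_left (by norm_num : 0 < 2)).1 (by rwa [← mul_assoc])
      rcases Nat.even_or_odd d with ⟨e, he⟩ | ho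
      · have hco : (2 ^ a).Coprime (d + 1) :=
          (Nat.coprime_two_left.2 (by rw [he]; exact ⟨e, by ring⟩)).pow_left a
        have := Nat.le_of_dvd (by omega) (hco.dvd_of_dvd_mul_right
          (show 2 ^ a ∣ 2 * d * (d + 1) by rwa [mul_comm 2 d, mul_assoc]))
        omega
      · have hco : (2 ^ a).Coprime d := (Nat.coprime_two_left.2 ho).pow_left a
        have := Nat.le_of_dvd (by omega) (hco.dvd_of_dvd_mul_left h3)
        exact hex ⟨a, by omega⟩
    · have h3 : q ^ a ∣ (p - 1) * (p + 1) := (dvd_mul_left _ _).trans h2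
      have hle : q ^ a ∣ p - 1 ∨ q ^ a ∣ p + 1 := by
        by_cases hd1 : q ∣ p - 1
        · refine Or.inl (Nat.Coprime.dvd_of_dvd_mul_right ?_ h3)
          refine ((Nat.Prime.coprime_iff_not_dvd hq).2 fun hd2 => hq2 ?_).pow_left a
          have h4 : q ∣ 2 := by
            have := Nat.dvd_sub hd2 hd1
            rwa [show p + 1 - (p - 1) = 2 by omega] at this
          exact (Nat.prime_dvd_prime_iff_eq hq Nat.prime_two).1 h4
        · exact Or.inr ((((Nat.Prime.coprime_iff_not_dvd hq).2 hd1).pow_left a).dvd_of_dvd_mul_left h3)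
      rcases hle with h | h
      · have := Nat.le_of_dvd (by omega) h; omega
      · have := Nat.le_of_dvd (by omega) h
        have ho : Odd (q ^ a) := (hq.odd_of_ne_two hq2).pow
        obtain ⟨e, he⟩ := ho
        omega
  · have h3 : q ^ a ∣ (p - 1) * (p - 2) :=
      hcop.dvd_of_dvd_mul_left (by rw [← mul_assoc]; exact hc ▸ hd)
    by_cases hd1 : q ∣ p - 1
    · have hnd : ¬ q ∣ p - 2 := fun hd2 => by
        have := Nat.dvd_sub hd1 hd2
        rw [show p - 1 - (p - 2) = 1 by omega] at this
        exact hq.one_lt.ne' (Nat.dvd_one.1 this)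
      have := Nat.le_of_dvd (by omega)
        ((((Nat.Prime.coprime_iff_not_dvd hq).2 hnd).pow_left a).dvd_of_dvd_mul_right h3)
      omega
    · have := Nat.le_of_dvd (by omega)
        ((((Nat.Prime.coprime_iff_not_dvd hq).2 hd1).pow_left a).dvd_of_dvd_mul_left h3)
      omega

/-! ### The two directions -/

theorem pSolvable_of_primePow (hex : ¬ (3 < p ∧ ∃ k : ℕ, p + 1 = 2 ^ k)) {q : ℕ} (hq : q.Prime)
    (G : Type u) [Group G] [Finite G] (hn : Nat.card (Sylow p G) < p ^ 2)
    (hqa : ∃ a, Nat.card (Sylow p G) = q ^ a) : IsPSolvable p G := by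
  induction hc : Nat.card G using Nat.strong_induction_on generalizing G with
  | _ c ih =>
    subst hc
    obtain ⟨a, ha⟩ := hqa
    by_cases hN : ∃ N : Subgroup G, N.Normal ∧ N ≠ ⊥ ∧ N ≠ ⊤
    · obtain ⟨N, hNn, hb, ht⟩ := hN
      haveI := hNn
      have hlt1 : Nat.card N < Nat.card G :=
        lt_of_le_of_ne N.card_le_card_group fun e => ht (Subgroup.eq_top_of_card_eq N e)
      have hd1 := card_sylow_normal_dvd (p := p) N
      have hd2 := card_sylow_quot_dvd (p := p) N
      refine H10.isPSolvable_of_normal N (ih _ hlt1 N ?_ ?_ rfl)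
        (ih _ (H10.card_quotient_lt N hb) (G ⧸ N) ?_ ?_ rfl)
      · exact (Nat.le_of_dvd Nat.card_pos hd1).trans_lt hn
      · obtain ⟨b, -, hb⟩ := (Nat.dvd_prime_pow hq).1 (ha ▸ hd1)
        exact ⟨b, hb⟩
      · exact (Nat.le_of_dvd Nat.card_pos hd2).trans_lt hn
      · obtain ⟨b, -, hb⟩ := (Nat.dvd_prime_pow hq).1 (ha ▸ hd2)
        exact ⟨b, hb⟩
    · push Not at hN
      by_cases hsol : Group.IsSolvable G
      · exact H10.isPSolvable_of_isSolvable
      by_cases hpd : p ∣ Nat.card G
      swap
      · haveI : Subsingleton (G ⧸ (⊤ : Subgroup G)) := QuotientGroup.subsingleton_quotient_top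
        refine H10.isPSolvable_of_quotient_of_card ⊤ (Or.inr ?_) H10.isPSolvable_of_subsingleton
        rw [Subgroup.card_top]
        exact ((Nat.Prime.coprime_iff_not_dvd hp.out).2 hpd).symm
      exfalso
      haveI : Nontrivial G := not_subsingleton_iff_nontrivial.1 fun h => hsol inferInstance
      haveI : IsSimpleGroup G := ⟨fun N hNn => or_iff_not_imp_left.2 (hN N hNn)⟩
      have hperf : commutator G = ⊤ :=
        ((inferInstance : (commutator G).Normal).eq_bot_or_eq_top).resolve_left fun h =>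
          hsol ⟨1, by rw [derivedSeries_one, h]⟩
      obtain ⟨P⟩ : Nonempty (Sylow p G) := inferInstance
      have hPn : ¬ (P : Subgroup G).Normal := fun h => by
        rcases h.eq_bot_or_eq_top with hb | ht
        · exact P.ne_bot_of_dvd_card hpd hb
        · haveI : Group.IsNilpotent G := by
            have : IsPGroup p G := fun x => by
              obtain ⟨k, hk⟩ := P.2 ⟨x, ht ▸ Subgroup.mem_top x⟩
              exact ⟨k, congrArg Subtype.val hk⟩
            exact this.isNilpotent
          exact hsol inferInstance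
      have hP := card_eq_prime hn P hPn
      obtain ⟨ν, hν⟩ := H18.BR.exists_sylow_count (G := G) (p := p)
      by_cases hF : H18.BR.IsF ν p
      · exact no_isF hq (ha ▸ hν) (ha ▸ hn) hF
      have hbot : Cfsg.pPrimeCore p G = ⊥ := by
        haveI : (Cfsg.pPrimeCore p G).Normal := H10.pPrimeCore_normal
        rcases (inferInstance : (Cfsg.pPrimeCore p G).Normal).eq_bot_or_eq_top with h | h
        · exact h
        · have hco : (Nat.card (Cfsg.pPrimeCore p G)).Coprime p := H10.pPrimeCore_coprime
          rw [h, Subgroup.card_top] at hco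
          exact absurd hpd ((Nat.Prime.coprime_iff_not_dvd hp.out).1 hco.symm)
      haveI : (Cfsg.pPrimeCore p G).Normal := H10.pPrimeCore_normal
      obtain ⟨hp5, hcard⟩ := ((H18.BR.concl_quot hperf P hP hν hF).1).card hp.out
      rw [Nat.card_congr ((QuotientGroup.quotientMulEquivOfEq hbot).trans
        QuotientGroup.quotientBot).toEquiv] at hcard
      have hqa1 : 1 < q ^ a := by
        rw [← ha]
        by_contra! h1
        haveI : Subsingleton (Sylow p G) :=
          Finite.card_le_one_iff_subsingleton.1 h1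
        exact hPn (Sylow.normal_of_subsingleton P)
      have hqp : q ≠ p := by
        rintro rfl
        have := sylow_count (G := G) (p := q)
        rw [ha] at this
        rcases a with _ | a
        · simp at hqa1
        · rw [Nat.pow_succ', Nat.mul_mod_right] at this; omega
      refine no_psl_order hq hp5 hqp (ha ▸ sylow_count) hqa1
        (fun hk => hex ⟨by omega, hk⟩) hcard ?_
      rw [← ha, P.card_eq_index_normalizer]
      exact Subgroup.index_dvd_card _

/-- The index of the fixed points of a `p`-group on a `p'`-group, one prime at a time. -/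
theorem factorization_fixed (M : Subgroup G) (P : Subgroup G) (hP : IsPGroup p P)
    (hM : ¬ p ∣ Nat.card M) (hPM : P ≤ Subgroup.normalizer (M : Set G)) {r : ℕ} (hr : r.Prime) :
    r ^ ((Subgroup.centralizer (P : Set G)).relIndex M).factorization r % p = 1 := by
  haveI : Fact r.Prime := ⟨hr⟩
  set C := Subgroup.centralizer (P : Set G) ⊓ M with hC
  obtain ⟨Q⟩ : Nonempty (Sylow r C) := inferInstance
  obtain ⟨hQC, hQr, hQi⟩ := H84.isSylIn_of_sylow Q
  set Q' := (Q : Subgroup C).map C.subtype
  have hPQ : P ≤ Subgroup.normalizer (Q' : Set G) := by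
    intro e he
    apply Subgroup.centralizer_le_normalizer
    rw [Subgroup.mem_centralizer_iff]
    intro x hx
    exact (Subgroup.mem_centralizer_iff.1 (hQC hx).1 e he).symm
  obtain ⟨S, ⟨hSM, hSr, hSi⟩, hPS, hQS⟩ :=
    H84.exists_inv_sylow_ge hP hM hPM (hQC.trans inf_le_right) hQr hPQ
  set F := Subgroup.centralizer (P : Set G) ⊓ S with hF
  have hFQ : Q' = F := by
    have hle : Q' ≤ F := le_inf (hQC.trans inf_le_left) hQS
    refine le_antisymm hle ?_
    have hFC : F ≤ C := inf_le_inf_left _ hSM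
    have h1 : Q'.relIndex F ∣ Q'.relIndex C := ⟨_, (Subgroup.relIndex_mul_relIndex _ _ _ hle hFC).symm⟩
    obtain ⟨k, hk⟩ := (hSr.to_le inf_le_right).index (Q'.subgroupOf F)
    have hk' : Q'.relIndex F = r ^ k := hk
    rcases k with _ | k
    · exact Subgroup.relIndex_eq_one.1 (by rw [hk', pow_zero])
    · exact absurd ((dvd_pow_self r k.succ_ne_zero).trans (hk' ▸ h1)) hQi
  obtain ⟨s, hs⟩ := hSr.exists_card_eq
  obtain ⟨f, hf⟩ := (hSr.to_le (inf_le_right : F ≤ S)).exists_card_eq
  have hfs : r ^ f ≡ r ^ s [MOD p] := by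
    letI := H84.conjSetAction P (S : Set G) fun e he x hx =>
      (Subgroup.mem_normalizer_iff.1 (hPS he) x).1 hx
    have h := hP.card_modEq_card_fixedPoints (S : Set G)
    rw [show Nat.card (S : Set G) = r ^ s from hs] at h
    rw [← hf]
    refine ((h.trans (congrArg (· % p) ?_ : Nat.ModEq p _ _))).symm
    refine Nat.card_congr
      { toFun := fun x => ⟨x.1.1, H84.mem_centralizer_of_conj fun e he =>
          congrArg Subtype.val (x.2 ⟨e, he⟩), x.1.2⟩
        invFun := fun x => ⟨⟨x.1, x.2.2⟩, fun e =>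
          Subtype.ext (H84.conj_eq_of_mem_centralizer x.2.1 e.2)⟩
        left_inv := fun x => rfl
        right_inv := fun x => rfl }
  have hv : ((Subgroup.centralizer (P : Set G)).relIndex M).factorization r + f = s := by
    have h1 : Nat.card C * (Subgroup.centralizer (P : Set G)).relIndex M = Nat.card M := by
      rw [hC, ← Subgroup.inf_relIndex_right]
      exact card_mul_relIndex' inf_le_right
    have h2 : Nat.card M = r ^ s * S.relIndex M := by
      rw [← hs, card_mul_relIndex' hSM]
    have h3 : Nat.card C = r ^ f * F.relIndex C := by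
      rw [← hf, card_mul_relIndex' (inf_le_inf_left _ hSM)]
    have hI : (Subgroup.centralizer (P : Set G)).relIndex M ≠ 0 :=
      Subgroup.FiniteIndex.index_ne_zero
    have hI1 : F.relIndex C ≠ 0 := Subgroup.FiniteIndex.index_ne_zero
    have hI2 : S.relIndex M ≠ 0 := Subgroup.FiniteIndex.index_ne_zero
    have h4 := congrArg (fun x => x.factorization r) (h1.trans h2)
    simp only [h3, Nat.factorization_mul (mul_ne_zero (pow_ne_zero f hr.ne_zero) hI1) hI,
      Nat.factorization_mul (pow_ne_zero f hr.ne_zero) hI1,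
      Nat.factorization_mul (pow_ne_zero s hr.ne_zero) hI2, Finsupp.add_apply,
      hr.factorization_pow, Finsupp.single_eq_same,
      Nat.factorization_eq_zero_of_not_dvd (hFQ ▸ hQi),
      Nat.factorization_eq_zero_of_not_dvd hSi] at h4
    omega
  have hrp : r ^ f % p ≠ 0 := by
    intro h0
    have hd : p ∣ Nat.card M :=
      ((Nat.dvd_of_mod_eq_zero h0).trans (hf ▸ Subgroup.card_dvd_of_le (inf_le_right.trans hSM)))
    exact hM hd
  rw [← hv, pow_add] at hfs
  have hco : Nat.Coprime p (r ^ f) :=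
    (Nat.Prime.coprime_iff_not_dvd hp.out).2 fun hd => hrp (Nat.mod_eq_zero_of_dvd hd)
  have h5 : 1 ≡ r ^ ((Subgroup.centralizer (P : Set G)).relIndex M).factorization r [MOD p] :=
    Nat.ModEq.cancel_right_of_coprime (c := r ^ f) (by rwa [Nat.Coprime] at hco) (by rwa [one_mul])
  have := h5.symm
  rwa [Nat.ModEq, Nat.mod_eq_of_lt hp.out.one_lt] at this

theorem exists_primePow_of_pSolvable (G : Type u) [Group G] [Finite G] (hG : IsPSolvable p G)
    (hn : Nat.card (Sylow p G) < p ^ 2) :
    ∃ q k : ℕ, q.Prime ∧ Nat.card (Sylow p G) = q ^ k := by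
  induction hc : Nat.card G using Nat.strong_induction_on generalizing G with
  | _ c ih =>
    subst hc
    obtain ⟨P⟩ : Nonempty (Sylow p G) := inferInstance
    by_cases hone : Nat.card (Sylow p G) = 1
    · exact ⟨2, 0, Nat.prime_two, by rw [hone, pow_zero]⟩
    haveI : Nontrivial G := by
      by_contra hs
      haveI := not_nontrivial_iff_subsingleton.1 hs
      exact hone (by
        rw [P.card_eq_index_normalizer, Subgroup.index_eq_one]
        exact Subsingleton.elim _ _)
    rcases H10.pCore_or_pPrimeCore_ne_bot hG with hM | hM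
    · haveI : (pCore p G).Normal := H10.pCore_normal
      have hle : pCore p G ≤ (P : Subgroup G) :=
        (H10.pCore_isPGroup.le_sylow_of_normal P)
      have h1 := card_sylow_quot (pCore p G) P
      rw [Subgroup.relIndex_eq_one.2 (hle.trans Subgroup.le_normalizer), mul_one] at h1
      rw [h1] at hn ⊢
      exact ih _ (H10.card_quotient_lt _ hM) _ (H10.isPSolvable_quotient hG _) hn rfl
    · haveI : (pPrimeCore p G).Normal := H10.pPrimeCore_normal
      set M := pPrimeCore p G with hMdef
      have hMp : ¬ p ∣ Nat.card M :=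
        (Nat.Prime.coprime_iff_not_dvd hp.out).1 (H10.pPrimeCore_coprime (p := p) (G := G)).symm
      have h1 := card_sylow_quot M P
      have hNC : (Subgroup.normalizer ((P : Subgroup G) : Set G)).relIndex M =
          (Subgroup.centralizer ((P : Subgroup G) : Set G)).relIndex M := by
        rw [← Subgroup.inf_relIndex_right, ← Subgroup.inf_relIndex_right (Subgroup.centralizer _)]
        congr 1
        refine le_antisymm (fun m hm => Subgroup.mem_inf.2 ⟨?_, hm.2⟩) (inf_le_inf_right _
          (Subgroup.centralizer_le_normalizer _))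
        rw [Subgroup.mem_centralizer_iff]
        intro x hx
        have h3 : x * m * x⁻¹ * m⁻¹ ∈ (P : Subgroup G) ⊓ M := by
          refine ⟨?_, ?_⟩
          · rw [show x * m * x⁻¹ * m⁻¹ = x * (m * x⁻¹ * m⁻¹) by group]
            exact (P : Subgroup G).mul_mem hx ((Subgroup.mem_normalizer_iff.1 hm.1 x⁻¹).1 ((P : Subgroup G).inv_mem hx))
          · exact M.mul_mem ((inferInstance : M.Normal).conj_mem m hm.2 x) (M.inv_mem hm.2)
        have h4 : (P : Subgroup G) ⊓ M = ⊥ := by
          obtain ⟨k, hk⟩ := P.2.exists_card_eq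
          exact Subgroup.inf_eq_bot_of_coprime
            (hk ▸ ((Nat.Prime.coprime_iff_not_dvd hp.out).2 hMp).pow_left k)
        rw [h4, Subgroup.mem_bot] at h3
        exact mul_inv_eq_iff_eq_mul.1 (mul_inv_eq_one.1 h3)
      set m := (Subgroup.normalizer ((P : Subgroup G) : Set G)).relIndex M with hm
      have hfac : ∀ r : ℕ, r.Prime → r ^ m.factorization r % p = 1 := fun r hr => by
        rw [hNC]
        exact factorization_fixed M P P.2 hMp
          (le_top.trans (Subgroup.normalizer_eq_top_iff.2 inferInstance).ge) hr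
      have hm0 : m ≠ 0 := Subgroup.FiniteIndex.index_ne_zero
      have hbig : ∀ x : ℕ, x % p = 1 → x ≠ 1 → p + 1 ≤ x := fun x hx hx1 => by
        by_contra! hlt
        rcases Nat.lt_or_eq_of_le (Nat.le_of_lt_succ hlt) with h | h
        · rw [Nat.mod_eq_of_lt h] at hx; omega
        · rw [h, Nat.mod_self] at hx; omega
      rcases eq_or_ne m 1 with hm1 | hm1
      · rw [hm1, mul_one] at h1
        rw [h1] at hn ⊢
        exact ih _ (H10.card_quotient_lt _ hM) _ (H10.isPSolvable_quotient hG _) hn rfl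
      obtain ⟨r, hr, hrm⟩ := Nat.exists_prime_and_dvd hm1
      set e := m.factorization r with he
      have he1 : r ^ e ≠ 1 := by
        rw [Ne, Nat.pow_eq_one, not_or]
        exact ⟨hr.one_lt.ne', (hr.factorization_pos_of_dvd hm0 hrm).ne'⟩
      have hre := hbig _ (hfac r hr) he1
      obtain ⟨w, hw⟩ := Nat.ordProj_dvd m r
      rw [← he] at hw
      by_cases hnq : Nat.card (Sylow p (G ⧸ M)) = 1
      swap
      · exfalso
        have h5 := hbig _ (sylow_count (G := G ⧸ M) (p := p)) hnq
        have h6 : r ^ e ≤ m := Nat.le_of_dvd (Nat.pos_of_ne_zero hm0) (Nat.ordProj_dvd m r)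
        have := Nat.mul_le_mul h5 (hre.trans h6)
        rw [← h1] at this
        nlinarith
      rw [hnq, one_mul] at h1
      refine ⟨r, e, hr, ?_⟩
      rw [h1] at hn ⊢
      by_contra hne
      have hw1 : w ≠ 1 := fun h => hne (by rw [hw, h, mul_one])
      obtain ⟨s, hs, hsw⟩ := Nat.exists_prime_and_dvd hw1
      have hsm : s ∣ m := hw ▸ dvd_mul_of_dvd_right hsw _
      have hsr : s ≠ r := by
        rintro rfl
        have h7 : s ^ (e + 1) ∣ m := by rw [pow_succ, hw]; exact Nat.mul_dvd_mul_left _ hsw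
        exact Nat.not_succ_le_self e ((hr.pow_dvd_iff_le_factorization hm0).1 h7)
      have hse := hbig _ (hfac s hs) (by
        rw [Ne, Nat.pow_eq_one, not_or]
        exact ⟨hs.one_lt.ne', (hs.factorization_pos_of_dvd hm0 hsm).ne'⟩)
      have hco : (r ^ e).Coprime (s ^ m.factorization s) :=
        ((Nat.coprime_primes hr hs).2 hsr.symm).pow _ _
      have h8 := Nat.le_of_dvd (Nat.pos_of_ne_zero hm0)
        (hco.mul_dvd_of_dvd_of_dvd (Nat.ordProj_dvd m r) (Nat.ordProj_dvd m s))
      have := (Nat.mul_le_mul hre hse).trans h8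
      nlinarith

end H10.SylowFew
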