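import Cfsg.Agent.H10.SemiModel
import Cfsg.Agent.H10.OffenderBasics

/-!
`J(G)` moves `Ω₁(Z(J(C)))` only inside `V`.
-/

set_option autoImplicit false
set_option linter.style.haveILetI false

open Cfsg
open scoped commutatorElement

namespace H10

variable {G : Type*} [Group G] [Finite G] {p : ℕ} [Fact p.Prime]

theorem commutator_omega_thompson_le (hsep : IsPSolvable p G) {V : Subgroup G} [V.Normal]
    (hV : IsElementaryAbelian p V) (hO : pCore p (G ⧸ Subgroup.centralizer (V : Set G)) = ⊥) :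
    ⁅omegaOne p (centerThompsonOf p (Subgroup.centralizer (V : Set G))), thompsonSubgroup p G⁆ ≤ V := by
  set C := Subgroup.centralizer (V : Set G) with hC
  set Z := omegaOne p (centerThompsonOf p C) with hZ
  set f := QuotientGroup.mk' V with hf
  suffices h : thompsonSubgroup p G ≤
      (Subgroup.centralizer ((Z.map f : Subgroup (G ⧸ V)) : Set (G ⧸ V))).comap f by
    rw [Subgroup.commutator_le]
    intro z hz j hj
    have h1 : f j ∈ Subgroup.centralizer ((Z.map f : Subgroup (G ⧸ V)) : Set (G ⧸ V)) := h hj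
    have h2 := Subgroup.mem_centralizer_iff.mp h1 _ ⟨z, hz, rfl⟩
    refine (QuotientGroup.eq_one_iff _).mp (show f ⁅z, j⁆ = 1 from ?_)
    rw [map_commutatorElement, commutatorElement_eq_one_iff_mul_comm]
    exact h2
  rw [thompsonSubgroup_eq]
  refine sSup_le fun A hA => ?_
  have hff := ffHyp_model (N := (⊤ : Subgroup G)) hV (isPSolvable_subgroup hsep ⊤) hO
  have hoff := isOff_of_maxFam (V := V) hV hA le_top (Subgroup.map_mono le_top)
  have e1 := hff.card_eq_of_isOff hoff
  rw [card_modelV, card_fixed_model] at e1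
  set A₀ := A ⊓ C with hA₀
  have e2 := card_map_model (V := V) A
  have hn : A₀ ≤ Subgroup.normalizer (V : Set G) := Subgroup.le_normalizer_of_normal
  have e3 := card_mul_card_inf hn
  have hVC : V ≤ C := Subgroup.le_centralizer_iff_isMulCommutative.mpr hV.1
  have hinf : A₀ ⊓ V = V ⊓ Subgroup.centralizer (A : Set G) := by
    rw [inf_centralizer_of_max hV (mem_maxElementary_iff.mpr hA)]
    exact le_antisymm (le_inf inf_le_right (inf_le_left.trans inf_le_left))
      (le_inf (le_inf inf_le_right (inf_le_left.trans hVC)) inf_le_left)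
  have hcard : Nat.card ↥(A₀ ⊔ V) = Nat.card A := by
    refine Nat.eq_of_mul_eq_mul_right (Nat.card_pos (α := ↥(V ⊓ Subgroup.centralizer (A : Set G)))) ?_
    calc Nat.card ↥(A₀ ⊔ V) * Nat.card ↥(V ⊓ Subgroup.centralizer (A : Set G))
        = Nat.card A₀ * Nat.card V := by rw [← hinf, e3]
      _ = _ := by rw [← e2, ← e1]; ring
  have he : IsElementaryAbelian p (A₀ ⊔ V : Subgroup G) :=
    elementaryAbelian_sup (elementaryAbelian_of_le hA.2.1 inf_le_left) hV fun x hx y hy =>
      (Subgroup.mem_centralizer_iff.mp hx.2 y hy).symm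
  have hmem : A₀ ⊔ V ∈ H11.maxFam (fun A : Subgroup G => IsElementaryAbelian p A) C :=
    ⟨sup_le inf_le_right hVC, he, fun B _ hB => hcard.symm ▸ hA.2.2 B le_top hB⟩
  have hZle : Z ≤ A₀ ⊔ V := by
    rw [hZ, H11.omegaOne_centerThompsonOf_eq]
    exact sInf_le hmem
  rw [← Subgroup.map_le_iff_le_comap, Subgroup.le_centralizer_iff]
  refine (Subgroup.map_mono hZle).trans ?_
  rw [Subgroup.map_sup, sup_le_iff]
  refine ⟨?_, ?_⟩
  · rintro _ ⟨x, hx, rfl⟩
    rw [Subgroup.mem_centralizer_iff]
    rintro _ ⟨a, ha, rfl⟩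
    rw [← map_mul, ← map_mul, comm_of_elem hA.2.1 ha hx.1]
  · rintro _ ⟨x, hx, rfl⟩
    rw [show f x = 1 from (QuotientGroup.eq_one_iff x).mpr hx]
    exact one_mem _

end H10
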